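import Mathlib

/-! The two statements from which the good class function of `KGV/Glue` is assembled. -/

set_option autoImplicit false

namespace CL.KGA

open Subgroup

universe u

/-- The evaluation of the twisted sums over a centralizer. -/
def KondoSt (p : ℕ) [Fact p.Prime] : Prop :=
  ∀ (V : Type u) [AddCommGroup V] [Module (ZMod p) V] [Finite V] (g : (Module.End (ZMod p) V)ˣ) (m : ℕ),
    ¬ p ∣ m → g ^ m = 1 → ∀ (θ : centralizer ({g} : Set (Module.End (ZMod p) V)ˣ) →* ℂ) (N : ℕ), ¬ p ∣ N →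
    (∀ x, θ x ^ N = 1) →
    (∀ x : centralizer ({g} : Set (Module.End (ZMod p) V)ˣ), (∀ v, x.1.1 (g.1 v - v) = g.1 v - v) → θ x = 1) →
    ∀ ψ : AddChar (ZMod p) ℂ, ψ ≠ 1 → ∃ (j : ℕ) (A : ℂ),
      ((∑ᶠ x : centralizer ({g} : Set (Module.End (ZMod p) V)ˣ), ψ (LinearMap.trace (ZMod p) V x.1.1)) = (p : ℂ) ^ j ∨
        (∑ᶠ x : centralizer ({g} : Set (Module.End (ZMod p) V)ˣ), ψ (LinearMap.trace (ZMod p) V x.1.1)) = -(p : ℂ) ^ j) ∧
      (∑ᶠ x : centralizer ({g} : Set (Module.End (ZMod p) V)ˣ), ψ (LinearMap.trace (ZMod p) V x.1.1) * θ x) =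
        (∑ᶠ x : centralizer ({g} : Set (Module.End (ZMod p) V)ˣ), ψ (LinearMap.trace (ZMod p) V x.1.1)) * A ∧
      IsIntegral ℤ A ∧ ‖A‖ ^ 2 * Nat.card {v // g.1 v = v} ≤ Nat.card V ∧
      (θ ≠ 1 → ∃ B, IsIntegral ℤ B ∧ A = (ψ 1 - 1) * B)

/-- The pairing of commuting automorphisms. -/
def ThetaSt (p : ℕ) [Fact p.Prime] : Prop :=
  ∀ (V : Type u) [AddCommGroup V] [Module (ZMod p) V] [Finite V], ∃ N : ℕ, ¬ p ∣ N ∧
    ∃ θ : (Module.End (ZMod p) V)ˣ → (Module.End (ZMod p) V)ˣ → ℂ,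
      (∀ y a b, a * y = y * a → b * y = y * b → θ y (a * b) = θ y a * θ y b) ∧ (∀ y, θ y 1 = 1) ∧
      (∀ y g a, a * y = y * a → θ (g * y * g⁻¹) (g * a * g⁻¹) = θ y a) ∧
      ∀ (g : (Module.End (ZMod p) V)ˣ) (m : ℕ), ¬ p ∣ m → g ^ m = 1 →
        ∃ (Θ : centralizer ({g} : Set (Module.End (ZMod p) V)ˣ) →* ℂ)
          (r : Equiv.Perm (centralizer ({g} : Set (Module.End (ZMod p) V)ˣ))), (∀ x, Θ x ^ N = 1) ∧
          (∀ x : centralizer ({g} : Set (Module.End (ZMod p) V)ˣ),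
            (∀ v, x.1.1 (g.1 v - v) = g.1 v - v) → Θ x = 1) ∧ (g ≠ 1 → Θ ≠ 1) ∧
          ∀ x : centralizer ({g} : Set (Module.End (ZMod p) V)ˣ), θ x.1 g = Θ (r x) ∧
            LinearMap.trace (ZMod p) V (r x).1.1 = LinearMap.trace (ZMod p) V x.1.1

end CL.KGA
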