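/-
Idempotent calculus and the re-indexing of commuting pairs.
-/
import Mathlib.FieldTheory.Finite.Basic
import Mathlib.Algebra.Polynomial.AlgebraMap
import Mathlib.Tactic.NoncommRing

set_option autoImplicit false
set_option maxHeartbeats 400000

namespace CL.KGA.C79
open Polynomial Finset

variable {K A : Type*} [Field K] [Fintype K] [Ring A] [Algebra K A]

local notation "Q" => Fintype.card K

/-- spectral idempotent -/
def pi (a : K) (z : A) : A := 1 - (z - algebraMap K A a) ^ (Q - 1)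

theorem Q_eq : Q - 1 + 1 = Q := Nat.sub_add_cancel Fintype.card_pos
theorem Q_ne : Q - 1 ≠ 0 := Nat.sub_ne_zero_of_lt Fintype.one_lt_card

theorem van {z : A} (hz : z ^ (Q - 1) = 1) (P : K[X]) (h : ∀ c : K, c ≠ 0 → P.eval c = 0) : aeval z P = 0 := by
  classical
  have hq : z ^ Q = z := by rw [← Q_eq (K := K), pow_succ, hz, one_mul]
  have h1 : (∏ c : K, (X - C c)) ∣ X * P := by
    refine Finset.prod_dvd_of_coprime (fun a _ b _ hab => pairwise_coprime_X_sub_C (fun _ _ h => h) hab) fun c _ => ?_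
    rw [dvd_iff_isRoot, IsRoot, eval_mul, eval_X]
    by_cases hc : c = 0
    · rw [hc, zero_mul]
    · rw [h c hc, mul_zero]
  have h2 : (∏ c : K, (X - C c)) = (X ^ Q - X : K[X]) := by
    have hm : (X ^ Q - X : K[X]).Monic := by
      refine (monic_X_pow _).sub_of_left ?_
      rw [degree_X, degree_X_pow]
      exact_mod_cast Fintype.one_lt_card
    have := prod_multiset_X_sub_C_of_monic_of_roots_card_eq hm (by
      rw [FiniteField.roots_X_pow_card_sub_X, FiniteField.X_pow_card_sub_X_natDegree_eq K Fintype.one_lt_card]; rfl)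
    rw [FiniteField.roots_X_pow_card_sub_X] at this
    exact this
  obtain ⟨R, hR⟩ := h1
  have h3 := congrArg (aeval z) hR
  rw [h2, map_mul, map_mul, map_sub, map_pow, aeval_X, hq, sub_self, zero_mul] at h3
  obtain ⟨m, hm⟩ := Nat.exists_eq_succ_of_ne_zero (Q_ne (K := K))
  calc aeval z P = z ^ (Q - 1) * aeval z P := by rw [hz, one_mul]
    _ = 0 := by rw [hm, pow_succ, mul_assoc, h3, mul_zero]

/-- the polynomial of the idempotent -/
noncomputable def pp (a : K) : K[X] := 1 - (X - C a) ^ (Q - 1)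

theorem pi_eq (a : K) (z : A) : pi a z = aeval z (pp a) := by simp [pi, pp]

open Classical in
theorem pp_eval (a c : K) : (pp a).eval c = if c = a then 1 else 0 := by
  simp only [pp, eval_sub, eval_one, eval_pow, eval_X, eval_C]
  split_ifs with h
  · rw [h, sub_self, zero_pow Q_ne, sub_zero]
  · rw [FiniteField.pow_card_sub_one_eq_one _ (sub_ne_zero.2 h), sub_self]

theorem comm_pi {y z : A} (h : Commute y z) (a : K) : Commute y (pi a z) :=
  (Commute.one_right y).sub_right ((h.sub_right (Algebra.commutes a y).symm).pow_right _)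

variable {z : A} (hz : z ^ (Fintype.card K - 1) = 1)
include hz

theorem pi_idem (a : K) : pi a z * pi a z = pi a z := by
  classical
  have := van hz (pp a * pp a - pp a) fun c _ => by
    rw [eval_sub, eval_mul, pp_eval]; split_ifs <;> simp
  rwa [map_sub, map_mul, ← pi_eq, sub_eq_zero] at this

theorem pi_orth {a b : K} (h : a ≠ b) : pi a z * pi b z = 0 := by
  classical
  have := van hz (pp a * pp b) fun c _ => by
    rw [eval_mul, pp_eval, pp_eval]; split_ifs with h1 h2
    · exact absurd (h1.symm.trans h2) h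
    all_goals simp
  rwa [map_mul, ← pi_eq, ← pi_eq] at this

theorem mul_pi (a : K) : z * pi a z = a • pi a z := by
  classical
  have := van hz (X * pp a - C a * pp a) fun c _ => by
    rw [eval_sub, eval_mul, eval_mul, pp_eval, eval_X, eval_C]; split_ifs with h
    · rw [h, sub_self]
    · simp
  rwa [map_sub, map_mul, map_mul, ← pi_eq, aeval_X, aeval_C, sub_eq_zero, ← Algebra.smul_def] at this

theorem sum_pi [Fintype Kˣ] : ∑ a : Kˣ, pi (a : K) z = 1 := by
  classical
  have := van hz (∑ a : Kˣ, pp (a : K) - 1) fun c hc => by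
    rw [eval_sub, eval_finsetSum, eval_one, sub_eq_zero, Finset.sum_eq_single (Units.mk0 c hc)]
    · rw [pp_eval, if_pos (by simp)]
    · intro b _ hb
      rw [pp_eval, if_neg]
      intro h; exact hb (Units.ext (by simp [h]))
    · simp
  rw [map_sub, map_sum, map_one, sub_eq_zero] at this
  simpa only [pi_eq] using this

omit hz

open Classical in
theorem pi_mul_of {s F : A} {c : K} (h : s * F = c • F) (b : K) : pi b s * F = if c = b then F else 0 := by
  have h1 : ∀ k : ℕ, (s - algebraMap K A b) ^ k * F = (c - b) ^ k • F := by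
    intro k
    induction k with
    | zero => simp
    | succ k ih =>
      rw [pow_succ', mul_assoc, ih, mul_smul_comm, sub_mul, h, ← Algebra.smul_def, ← sub_smul, smul_smul, ← pow_succ]
  rw [pi, sub_mul, one_mul, h1]
  split_ifs with e
  · rw [e, sub_self, zero_pow Q_ne, zero_smul, sub_zero]
  · rw [FiniteField.pow_card_sub_one_eq_one _ (sub_ne_zero.2 e), one_smul, sub_self]

omit [Fintype K] [Algebra K A] in
theorem cut_mul {E g h : A} (hE : E * E = E) (hh : Commute h E) :
    (g * E + 1 - E) * (h * E + 1 - E) = g * h * E + 1 - E := by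
  have e1 : E * (h * E) = h * E := by rw [← mul_assoc, ← hh.eq, mul_assoc, hE]
  have : (g * E + 1 - E) * (h * E + 1 - E) =
      g * (E * (h * E)) + g * E - g * (E * E) + h * E + 1 - E - E * (h * E) - E + E * E := by noncomm_ring
  rw [this, e1, hE]; noncomm_ring

variable (det : A →* K)

omit [Fintype K] in
theorem det_sum {ι : Type*} (s : Finset ι) (E : ι → A) (c : ι → K) (h1 : ∀ i, E i * E i = E i)
    (h2 : ∀ i j, i ≠ j → E i * E j = 0) :
    det (∑ i ∈ s, c i • E i + 1 - ∑ i ∈ s, E i) = ∏ i ∈ s, det (c i • E i + 1 - E i) := by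
  classical
  induction s using Finset.induction_on with
  | empty => simp
  | insert a s ha ih =>
    rw [sum_insert ha, sum_insert ha, prod_insert ha, ← ih, ← map_mul]
    congr 1
    have e1 : E a * ∑ i ∈ s, E i = 0 := by
      rw [mul_sum]; exact sum_eq_zero fun i hi => h2 _ _ fun h => ha (h ▸ hi)
    have e2 : E a * ∑ i ∈ s, c i • E i = 0 := by
      rw [mul_sum]; exact sum_eq_zero fun i hi => by
        rw [mul_smul_comm, h2 a i (fun h => ha (by rw [h]; exact hi)), smul_zero]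
    simp only [sub_mul, add_mul, mul_sub, mul_add, smul_mul_assoc, e1, e2, smul_zero, one_mul, mul_one]
    abel

/-- the exponent of an idempotent -/
noncomputable def dd (E : A) : ℕ := Classical.epsilon fun m => ∀ c : Kˣ, det ((c : K) • E + 1 - E) = (c : K) ^ m

theorem dd_spec {E : A} (hE : E * E = E) (c : Kˣ) : det ((c : K) • E + 1 - E) = (c : K) ^ dd det E := by
  refine Classical.epsilon_spec (p := fun m => ∀ c : Kˣ, det ((c : K) • E + 1 - E) = (c : K) ^ m) ?_ c
  have hm : ∀ a b : K, det ((a * b) • E + 1 - E) = det (a • E + 1 - E) * det (b • E + 1 - E) := fun a b => by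
    rw [← map_mul, Algebra.smul_def, Algebra.smul_def, Algebra.smul_def, cut_mul hE (Algebra.commutes b E), map_mul]
  have h1 : det ((1 : K) • E + 1 - E) = 1 := by rw [one_smul, add_sub_cancel_left, map_one]
  have hp : ∀ (a : K) (k : ℕ), det ((a ^ k) • E + 1 - E) = det (a • E + 1 - E) ^ k := fun a k => by
    induction k with
    | zero => rw [pow_zero, pow_zero, h1]
    | succ k ih => rw [pow_succ, hm, ih, pow_succ]
  obtain ⟨γ, hγ⟩ := IsCyclic.exists_monoid_generator (α := Kˣ)
  have h0 : det ((γ : K) • E + 1 - E) ≠ 0 := fun h => by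
    have := hm γ (γ⁻¹ : Kˣ)
    rw [Units.mul_inv, h1, h, zero_mul] at this
    exact one_ne_zero this
  obtain ⟨m, hm'⟩ := hγ (Units.mk0 _ h0)
  have hm2 : (γ : K) ^ m = det ((γ : K) • E + 1 - E) := by
    have := congrArg Units.val hm'
    simpa using this
  refine ⟨m, fun c => ?_⟩
  obtain ⟨k, rfl⟩ := hγ c
  simp only [Units.val_pow_eq_pow_val]
  rw [hp, ← hm2, ← pow_mul, ← pow_mul, mul_comm]

theorem det_cut {ι : Type*} [Fintype ι] (E : ι → A) (c : ι → Kˣ) (h1 : ∀ i, E i * E i = E i)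
    (h2 : ∀ i j, i ≠ j → E i * E j = 0) {y P : A} (hP : P = ∑ i, E i) (hy : ∀ i, y * E i = (c i : K) • E i) :
    det (y * P + 1 - P) = ∏ i, (c i : K) ^ dd det (E i) := by
  rw [hP, mul_sum, sum_congr rfl fun i _ => hy i, det_sum det univ E (fun i => (c i : K)) h1 h2]
  exact prod_congr rfl fun i _ => dd_spec det (h1 i) (c i)

variable [Fintype Kˣ]

/-- the pairing -/
noncomputable def T (w : Kˣ → ℕ) (x g : A) : K :=
  ∏ b : Kˣ, det (g * pi (b : K) (x ^ Q) + 1 - pi (b : K) (x ^ Q)) ^ w b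

theorem T_one (w : Kˣ → ℕ) (x : A) : T det w x 1 = 1 := by
  simp [T]

theorem T_mul (w : Kˣ → ℕ) {x g h : A} (hx : (x ^ Q) ^ (Q - 1) = 1) (hh : Commute h x) :
    T det w x (g * h) = T det w x g * T det w x h := by
  rw [T, T, T, ← prod_mul_distrib]
  refine prod_congr rfl fun b _ => ?_
  rw [← mul_pow, ← map_mul, cut_mul (pi_idem hx _) (comm_pi (hh.pow_right _) _)]

omit [Fintype Kˣ] in
theorem pi_conj {u v : A} (h : v * u = 1) (h' : u * v = 1) (a : K) (z : A) : pi a (u * z * v) = u * pi a z * v := by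
  have hp : ∀ (y : A) (k : ℕ), (u * y * v) ^ k = u * y ^ k * v := fun y k => by
    induction k with
    | zero => simp [h']
    | succ k ih =>
      rw [pow_succ, ih, pow_succ]
      calc u * y ^ k * v * (u * y * v) = u * y ^ k * (v * u) * y * v := by noncomm_ring
        _ = _ := by rw [h]; noncomm_ring
  have : u * z * v - algebraMap K A a = u * (z - algebraMap K A a) * v := by
    rw [mul_sub, sub_mul, ← Algebra.commutes, mul_assoc (algebraMap K A a), h', mul_one]
  rw [pi, pi, this, hp, mul_sub, sub_mul, mul_one, h']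

theorem T_conj (w : Kˣ → ℕ) {u v : A} (h : v * u = 1) (h' : u * v = 1) (x g : A) :
    T det w (u * x * v) (u * g * v) = T det w x g := by
  have hp : ∀ (y : A) (k : ℕ), (u * y * v) ^ k = u * y ^ k * v := fun y k => by
    induction k with
    | zero => simp [h']
    | succ k ih =>
      rw [pow_succ, ih, pow_succ]
      calc u * y ^ k * v * (u * y * v) = u * y ^ k * (v * u) * y * v := by noncomm_ring
        _ = _ := by rw [h]; noncomm_ring
  refine prod_congr rfl fun b _ => ?_
  rw [hp, pi_conj h h']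
  generalize pi (b : K) (x ^ Q) = E
  have : u * g * v * (u * E * v) + 1 - u * E * v = u * (g * E + 1 - E) * v := by
    calc _ = u * g * (v * u) * E * v + u * v - u * E * v := by rw [h']; noncomm_ring
      _ = _ := by rw [h]; noncomm_ring
  rw [this, map_mul, map_mul, mul_right_comm, ← map_mul, h', map_one, one_mul]

/-- joint idempotents -/
def FF (g s : A) (a b : Kˣ) : A := pi (a : K) g * pi (b : K) s

/-- new semisimple part -/
def sp (ρ : Kˣ → Kˣ → Kˣ) (g s : A) : A := ∑ a : Kˣ, ∑ b : Kˣ, (ρ a b : K) • FF g s a b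

/-- unipotent part -/
def un (K : Type*) [Fintype K] (x : A) : A := x * (x ^ Fintype.card K) ^ (Fintype.card K - 2)

/-- the re-indexing -/
def re (ρ : Kˣ → Kˣ → Kˣ) (g x : A) : A := un K x * sp ρ g (x ^ Q)

omit [Fintype Kˣ] in
theorem comm_FF {y g s : A} (h1 : Commute y g) (h2 : Commute y s) (a b : Kˣ) : Commute y (FF g s a b) :=
  (comm_pi h1 _).mul_right (comm_pi h2 _)

theorem comm_sp {y g s : A} (h1 : Commute y g) (h2 : Commute y s) (ρ : Kˣ → Kˣ → Kˣ) : Commute y (sp ρ g s) :=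
  Commute.sum_right _ _ _ fun a _ => Commute.sum_right _ _ _ fun b _ => (comm_FF h1 h2 a b).smul_right _

omit [Field K] [Algebra K A] [Fintype Kˣ] in
theorem comm_un {y x : A} (h : Commute y x) : Commute y (un K x) := h.mul_right ((h.pow_right _).pow_right _)

theorem comm_re {y g x : A} (h1 : Commute y g) (h2 : Commute y x) (ρ : Kˣ → Kˣ → Kˣ) : Commute y (re ρ g x) :=
  (comm_un h2).mul_right (comm_sp h1 (h2.pow_right _) ρ)

section
variable {g s : A} (hg : g ^ (Fintype.card K - 1) = 1) (hs : s ^ (Fintype.card K - 1) = 1) (hc : Commute g s)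
include hg hs hc

omit [Fintype Kˣ] in
open Classical in
theorem FF_mul (a b a' b' : Kˣ) : FF g s a b * FF g s a' b' = if a = a' ∧ b = b' then FF g s a b else 0 := by
  have h1 : Commute (pi (b : K) s) (pi (a' : K) g) := comm_pi (comm_pi hc _).symm _
  have : FF g s a b * FF g s a' b' = (pi (a : K) g * pi (a' : K) g) * (pi (b : K) s * pi (b' : K) s) := by
    rw [FF, FF, mul_assoc, ← mul_assoc (pi (b : K) s), h1.eq]; noncomm_ring
  rw [this]
  split_ifs with h
  · rw [← h.1, ← h.2, pi_idem hg, pi_idem hs, FF]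
  · by_cases ha : a = a'
    · rw [pi_orth hs (a := b) (b := b') fun e => h ⟨ha, Units.ext e⟩, mul_zero]
    · rw [pi_orth hg (a := a) (b := a') fun e => ha (Units.ext e), zero_mul]

omit [Fintype Kˣ] in
theorem FF_idem (a b : Kˣ) : FF g s a b * FF g s a b = FF g s a b := by
  rw [FF_mul hg hs hc, if_pos ⟨rfl, rfl⟩]

omit hs hc [Fintype Kˣ] in
theorem g_FF (a b : Kˣ) : g * FF g s a b = (a : K) • FF g s a b := by
  rw [FF, ← mul_assoc, mul_pi hg, smul_mul_assoc]

omit hg [Fintype Kˣ] in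
theorem s_FF (a b : Kˣ) : s * FF g s a b = (b : K) • FF g s a b := by
  rw [FF, ← mul_assoc, (comm_pi hc.symm _).eq, mul_assoc, mul_pi hs, mul_smul_comm]

theorem sp_FF (ρ : Kˣ → Kˣ → Kˣ) (a b : Kˣ) : sp ρ g s * FF g s a b = (ρ a b : K) • FF g s a b := by
  classical
  rw [sp, sum_mul, sum_eq_single a, sum_mul, sum_eq_single b, smul_mul_assoc, FF_idem hg hs hc]
  · intro b' _ h; rw [smul_mul_assoc, FF_mul hg hs hc, if_neg fun e => h e.2, smul_zero]
  · simp
  · intro a' _ h
    rw [sum_mul]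
    exact sum_eq_zero fun b' _ => by rw [smul_mul_assoc, FF_mul hg hs hc, if_neg fun e => h e.1, smul_zero]
  · simp

omit hs hc in
theorem sum_FF1 (b : Kˣ) : pi (b : K) s = ∑ a, FF g s a b := by
  simp only [FF]; rw [← sum_mul, sum_pi hg, one_mul]

omit hg hc in
theorem sum_FF2 (a : Kˣ) : pi (a : K) g = ∑ b, FF g s a b := by
  simp only [FF]; rw [← mul_sum, sum_pi hs, mul_one]

omit hc in
theorem sum_FF : ∑ a : Kˣ, ∑ b : Kˣ, FF g s a b = 1 := by
  rw [← sum_pi hg]; exact sum_congr rfl fun a _ => (sum_FF2 hs a).symm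

omit hc in
theorem eq_sum (y : A) : y = ∑ a : Kˣ, ∑ b : Kˣ, y * FF g s a b := by
  simp only [← mul_sum]; rw [sum_FF hg hs, mul_one]

theorem sp_pow (ρ : Kˣ → Kˣ → Kˣ) : sp ρ g s ^ (Q - 1) = 1 := by
  have h1 : ∀ (k : ℕ) a b, sp ρ g s ^ k * FF g s a b = (ρ a b : K) ^ k • FF g s a b := fun k a b => by
    induction k with
    | zero => simp
    | succ k ih => rw [pow_succ', mul_assoc, ih, mul_smul_comm, sp_FF hg hs hc, smul_smul, ← pow_succ]
  rw [eq_sum (K := K) hg hs (sp ρ g s ^ (Q - 1)), ← sum_FF (K := K) hg hs]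
  refine sum_congr rfl fun a _ => sum_congr rfl fun b _ => ?_
  rw [h1, FiniteField.pow_card_sub_one_eq_one _ (Units.ne_zero _), one_smul]

theorem FF_sp {ρ : Kˣ → Kˣ → Kˣ} (hρ : ∀ a, Function.Injective (ρ a)) (a b : Kˣ) :
    FF g (sp ρ g s) a (ρ a b) = FF g s a b := by
  classical
  have h1 : Commute (pi (a : K) g) (pi (ρ a b : K) (sp ρ g s)) :=
    comm_pi (comm_sp (comm_pi (Commute.refl g) _).symm (comm_pi hc.symm _).symm ρ) _
  rw [FF, h1.eq, sum_FF2 hs a, mul_sum, sum_eq_single b, pi_mul_of (sp_FF hg hs hc ρ a b), if_pos rfl]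
  · intro b' _ h
    rw [pi_mul_of (sp_FF hg hs hc ρ a b'), if_neg fun e => h (hρ a (Units.ext e))]
  · simp

end

section
variable {g x : A} (hg : g ^ (Fintype.card K - 1) = 1) (hx : (x ^ Fintype.card K) ^ (Fintype.card K - 1) = 1)
  (hc : Commute g x)
include hx

omit [Algebra K A] [Fintype Kˣ] in
theorem un_mul : un K x * x ^ Q = x := by
  have : Q - 2 + 1 = Q - 1 := by have := Fintype.one_lt_card (α := K); omega
  rw [un, mul_assoc, ← pow_succ, this, hx, mul_one]

omit [Algebra K A] [Fintype Kˣ] in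
theorem un_pow : un K x ^ Q = 1 := by
  have h1 : (x ^ Q) ^ Q = x ^ Q := by
    conv_lhs => rw [← Q_eq (K := K), pow_succ, Q_eq, hx, one_mul]
  have h2 : Q - 2 + 1 = Q - 1 := by have := Fintype.one_lt_card (α := K); omega
  rw [un, (((Commute.refl x).pow_right _).pow_right _).mul_pow, ← pow_mul _ (Q - 2), mul_comm (Q - 2), pow_mul, h1,
    ← pow_succ', h2, hx]

include hg hc

theorem re_pow (ρ : Kˣ → Kˣ → Kˣ) : re ρ g x ^ Q = sp ρ g (x ^ Q) := by
  have h1 : Commute (un K x) (sp ρ g (x ^ Q)) :=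
    comm_sp (comm_un hc).symm (comm_un ((Commute.refl x).pow_left _)).symm ρ
  rw [re, h1.mul_pow, un_pow hx, one_mul]
  conv_lhs => rw [← Q_eq (K := K), pow_succ, Q_eq, sp_pow hg hx (hc.pow_right _), one_mul]

theorem re_ord (ρ : Kˣ → Kˣ → Kˣ) : (re ρ g x ^ Q) ^ (Q - 1) = 1 := by
  rw [re_pow hg hx hc, sp_pow hg hx (hc.pow_right _)]

theorem T_re {w : Kˣ → ℕ} {ρ : Kˣ → Kˣ → Kˣ}
    (h : ∏ a : Kˣ, ∏ b : Kˣ, a ^ (w b * dd det (FF g (x ^ Q) a b)) =
      ∏ a : Kˣ, ∏ b : Kˣ, ρ a b ^ (w a * dd det (FF g (x ^ Q) a b))) :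
    T det w x g = T det w g (re ρ g x) := by
  classical
  have hc' : Commute g (x ^ Q) := hc.pow_right _
  have hq : g ^ Q = g := by rw [← Q_eq (K := K), pow_succ, hg, one_mul]
  have h' := congrArg Units.val h
  simp only [Units.coe_prod, Units.val_pow_eq_pow_val] at h'
  have e1 : T det w x g = ∏ a : Kˣ, ∏ b : Kˣ, (a : K) ^ (w b * dd det (FF g (x ^ Q) a b)) := by
    rw [T, prod_comm]
    refine prod_congr rfl fun b _ => ?_
    rw [det_cut det (fun a => FF g (x ^ Q) a b) id (fun a => FF_idem hg hx hc' a b)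
      (fun a a' h => by rw [FF_mul hg hx hc', if_neg fun e => h e.1]) (sum_FF1 hg b) (fun a => g_FF hg a b), ← prod_pow]
    exact prod_congr rfl fun a _ => by rw [← pow_mul, mul_comm]; rfl
  rw [e1, h', T, hq]
  refine prod_congr rfl fun a _ => ?_
  have hE := pi_idem hg (a : K)
  have hu : Commute (un K x) (pi (a : K) g) := comm_pi (comm_un hc).symm _
  have h1 : ∀ k : ℕ, det (un K x ^ k * pi (a : K) g + 1 - pi (a : K) g) =
      det (un K x * pi (a : K) g + 1 - pi (a : K) g) ^ k := fun k => by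
    induction k with
    | zero => simp
    | succ k ih => rw [pow_succ, ← cut_mul hE hu, map_mul, ih, pow_succ]
  have h2 : det (un K x * pi (a : K) g + 1 - pi (a : K) g) = 1 := by
    rw [← FiniteField.pow_card (det _), ← h1, un_pow hx]; simp
  rw [re, ← cut_mul hE (comm_pi (comm_sp (Commute.refl g) hc' ρ).symm _), map_mul, h2, one_mul,
    det_cut det (fun b => FF g (x ^ Q) a b) (ρ a) (fun b => FF_idem hg hx hc' a b)
      (fun b b' h => by rw [FF_mul hg hx hc', if_neg fun e => h e.2]) (sum_FF2 hx a) (fun b => sp_FF hg hx hc' ρ a b),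
    ← prod_pow]
  exact prod_congr rfl fun b _ => by rw [← pow_mul, mul_comm]

theorem re_inj {ρ : Kˣ → Kˣ → Kˣ} (hρ : ∀ a, Function.Injective (ρ a)) {y : A}
    (hy : (y ^ Q) ^ (Q - 1) = 1) (hc' : Commute g y) (h : re ρ g x = re ρ g y) : x = y := by
  have h1 : sp ρ g (x ^ Q) = sp ρ g (y ^ Q) := by rw [← re_pow hg hx hc, ← re_pow hg hy hc', h]
  have h2 : ∀ a b : Kˣ, FF g (x ^ Q) a b = FF g (y ^ Q) a b := fun a b => by
    rw [← FF_sp hg hx (hc.pow_right _) hρ, h1, FF_sp hg hy (hc'.pow_right _) hρ]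
  have h3 : x ^ Q = y ^ Q := by
    rw [eq_sum (K := K) hg hx (x ^ Q), eq_sum (K := K) hg hy (y ^ Q)]
    refine sum_congr rfl fun a _ => sum_congr rfl fun b _ => ?_
    rw [s_FF hx (hc.pow_right _), s_FF hy (hc'.pow_right _), h2]
  have h4 : un K x = un K y := by
    have e := sp_pow hg hy (hc'.pow_right _) ρ
    obtain ⟨m, hm⟩ := Nat.exists_eq_succ_of_ne_zero (Q_ne (K := K))
    rw [hm, pow_succ'] at e
    rw [re, re, h1] at h
    rw [← mul_one (un K x), ← e, ← mul_assoc, h, mul_assoc, e, mul_one]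
  rw [← un_mul hx, ← un_mul hy, h4, h3]

end

section
variable {p : ℕ} {σ : A →+* A} (hσ : ∀ c : K, σ (algebraMap K A c) = algebraMap K A (c ^ p))
include hσ

omit [Fintype Kˣ] in
theorem σ_pi (a : K) (z : A) : σ (pi a z) = pi (a ^ p) (σ z) := by
  simp only [pi, map_sub, map_one, map_pow σ, hσ]

omit [Fintype Kˣ] [Fintype K] in
theorem σ_smul (c : K) (z : A) : σ (c • z) = c ^ p • σ z := by
  rw [Algebra.smul_def, map_mul, hσ, ← Algebra.smul_def]

omit [Fintype Kˣ] in
theorem σ_FF {g s : A} (hg : σ g = g) (hs : σ s = s) (a b : Kˣ) : σ (FF g s a b) = FF g s (a ^ p) (b ^ p) := by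
  rw [FF, map_mul, σ_pi hσ, σ_pi hσ, hg, hs, FF, Units.val_pow_eq_pow_val, Units.val_pow_eq_pow_val]

omit [Fintype Kˣ] [Fintype K] in
theorem dd_σ (hb : Function.Bijective fun a : Kˣ => a ^ p) (hd : ∀ x, det (σ x) = det x ^ p)
    (hi : Function.Injective fun a : K => a ^ p) (E : A) : dd det (σ E) = dd det E := by
  unfold dd
  congr 1
  funext m
  have key : ∀ c : Kˣ, det (((c ^ p : Kˣ) : K) • σ E + 1 - σ E) = det ((c : K) • E + 1 - E) ^ p := fun c => by
    rw [← hd, map_sub σ, map_add σ, map_one σ, σ_smul hσ, Units.val_pow_eq_pow_val]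
  refine propext ⟨fun h c => hi ?_, fun h c => ?_⟩
  · show _ ^ p = _ ^ p
    rw [← key, h, Units.val_pow_eq_pow_val, ← pow_mul, ← pow_mul, mul_comm]
  · obtain ⟨c, rfl⟩ := hb.2 c
    show det (((c ^ p : Kˣ) : K) • σ E + 1 - σ E) = ((c ^ p : Kˣ) : K) ^ m
    rw [key, h, Units.val_pow_eq_pow_val, ← pow_mul, ← pow_mul, mul_comm]

theorem σ_re (hb : Function.Bijective fun a : Kˣ => a ^ p) {ρ : Kˣ → Kˣ → Kˣ}
    (hρ : ∀ a b, ρ (a ^ p) (b ^ p) = ρ a b ^ p) {g x : A} (hg : σ g = g) (hx : σ x = x) :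
    σ (re ρ g x) = re ρ g x := by
  have hs : σ (x ^ Q) = x ^ Q := by rw [map_pow, hx]
  rw [re, map_mul, un, map_mul, map_pow, hs, hx]
  congr 1
  rw [sp, map_sum]
  refine Fintype.sum_bijective _ hb _ _ fun a => ?_
  rw [map_sum]
  refine Fintype.sum_bijective _ hb _ _ fun b => ?_
  rw [σ_smul hσ, σ_FF hσ hg hs, hρ, Units.val_pow_eq_pow_val]

end

theorem re_tr (tr : A →ₗ[K] K) (hn : ∀ y, IsNilpotent y → tr y = 0) {g x : A} (hg : g ^ (Q - 1) = 1)
    (hx : (x ^ Q) ^ (Q - 1) = 1) (hc : Commute g x) {p N : ℕ} [Fact p.Prime] [CharP K p] (hQ : Q = p ^ N)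
    (ρ : Kˣ → Kˣ → Kˣ) :
    tr (re ρ g x) = ∑ a : Kˣ, ∑ b : Kˣ, (ρ a b : K) * tr (FF g (x ^ Q) a b) ∧
      tr x = ∑ a : Kˣ, ∑ b : Kˣ, (b : K) * tr (FF g (x ^ Q) a b) := by
  have hc' : Commute g (x ^ Q) := hc.pow_right _
  have hu : ∀ a b : Kˣ, tr (un K x * FF g (x ^ Q) a b) = tr (FF g (x ^ Q) a b) := fun a b => by
    rw [← sub_eq_zero, ← map_sub, ← sub_one_mul]
    refine hn _ ⟨Q, ?_⟩
    have h1 : Commute (un K x - 1) (FF g (x ^ Q) a b) :=
      (comm_FF (comm_un hc).symm (comm_un ((Commute.refl x).pow_left _)).symm a b).sub_left (Commute.one_left _)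
    have h2 : (un K x - 1) ^ Q = 0 := by
      rcases subsingleton_or_nontrivial A with hA | hA
      · exact Subsingleton.elim _ _
      have : CharP A p := charP_of_injective_algebraMap (algebraMap K A).injective p
      have h3 := un_pow hx
      rw [hQ] at h3 ⊢
      rw [sub_pow_char_pow_of_commute _ _ (Commute.one_right _), h3, one_pow, sub_self]
    rw [h1.mul_pow, h2, zero_mul]
  constructor
  · rw [re, sp, mul_sum, map_sum]
    refine sum_congr rfl fun a _ => ?_
    rw [mul_sum, map_sum]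
    exact sum_congr rfl fun b _ => by rw [mul_smul_comm, map_smul, hu, smul_eq_mul]
  · conv_lhs => rw [eq_sum (K := K) hg hx x]
    rw [map_sum]
    refine sum_congr rfl fun a _ => ?_
    rw [map_sum]
    refine sum_congr rfl fun b _ => ?_
    have : x * FF g (x ^ Q) a b = un K x * (x ^ Q * FF g (x ^ Q) a b) := by rw [← mul_assoc, un_mul hx]
    rw [this, s_FF hx hc', mul_smul_comm, map_smul, hu, smul_eq_mul]

omit [Fintype K] in
theorem sum_re {p : ℕ} (hi : Function.Injective fun a : Kˣ => a ^ p) (j : Kˣ → Kˣ → ℕ)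
    (hj : ∀ a b, j (a ^ p) (b ^ p) = j a b) (t : Kˣ → Kˣ → K) (ht : ∀ a b, t (a ^ p) (b ^ p) = t a b) :
    ∑ a : Kˣ, ∑ b : Kˣ, ((b ^ p ^ j a b : Kˣ) : K) * t a b = ∑ a : Kˣ, ∑ b : Kˣ, (b : K) * t a b := by
  have hj' : ∀ k a b, j (a ^ p ^ k) (b ^ p ^ k) = j a b := fun k a b => by
    induction k with
    | zero => simp
    | succ k ih => rw [pow_succ, pow_mul, pow_mul, hj, ih]
  have ht' : ∀ k a b, t (a ^ p ^ k) (b ^ p ^ k) = t a b := fun k a b => by
    induction k with
    | zero => simp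
    | succ k ih => rw [pow_succ, pow_mul, pow_mul, ht, ih]
  have hi' : ∀ k, Function.Injective fun a : Kˣ => a ^ p ^ k := fun k => by
    induction k with
    | zero => intro a b h; simpa using h
    | succ k ih =>
      intro a b h
      simp only [pow_succ, pow_mul] at h
      exact ih (hi h)
  rw [← Fintype.sum_prod_type', ← Fintype.sum_prod_type']
  refine Fintype.sum_bijective (fun q : Kˣ × Kˣ => (q.1 ^ p ^ j q.1 q.2, q.2 ^ p ^ j q.1 q.2))
    (Finite.injective_iff_bijective.1 ?_) _ _ fun q => by simp only [ht']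
  rintro ⟨a, b⟩ ⟨a', b'⟩ h
  simp only [Prod.mk.injEq] at h
  have e : j a b = j a' b' := by rw [← hj' (j a b) a b, h.1, h.2, hj']
  rw [e] at h
  exact Prod.ext (hi' _ h.1) (hi' _ h.2)

end CL.KGA.C79
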