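import Mathlib.Algebra.Ring.NonZeroDivisors
import Mathlib.Analysis.Complex.Basic
import Mathlib.Algebra.Group.AddChar
import Mathlib.RingTheory.IntegralClosure.IsIntegralClosure.Basic
import Mathlib.Tactic

/-! Gauss sums over corner rings of a finite ring: the block recursion. -/

set_option autoImplicit false
set_option linter.unusedSectionVars false
set_option linter.unusedVariables false
open Finset
open scoped ComplexConjugate

namespace CL.KGA2

variable {C : Type*} [Ring C] [Fintype C]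

open Classical in
/-- units of the corner ring -/
noncomputable def X (e : C) : Finset C :=
  univ.filter fun x => e * x = x ∧ x * e = x ∧ IsUnit (x + (1 - e))

open Classical in
/-- the off-diagonal block -/
noncomputable def T (e f : C) : Finset C := univ.filter fun t => e * t = t ∧ t * f = t

/-- the Gauss sum of a corner -/
noncomputable def Fe (φ : AddChar C ℂ) (θ : C → ℂ) (e : C) : ℂ :=
  ∑ x ∈ X e, φ x * θ (x + (1 - e))

theorem mem_X {e x : C} : x ∈ X e ↔ e * x = x ∧ x * e = x ∧ IsUnit (x + (1 - e)) := by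
  simp [X]

theorem mem_T {e f t : C} : t ∈ T e f ↔ e * t = t ∧ t * f = t := by simp [T]

theorem unit_of_sq {t : C} (h : t * t = 0) : IsUnit (1 + t) :=
  ⟨⟨1 + t, 1 - t, by simp [mul_sub, add_mul, h], by simp [sub_mul, mul_add, h]⟩, rfl⟩

theorem sum_T {φ : AddChar C ℂ} (hs : ∀ x y, φ (x * y) = φ (y * x))
    (hn : ∀ z, z ≠ 0 → ∃ y, φ (z * y) ≠ 1) {e f : C} (he : e * e = e) (hf : f * f = f) (x : C) :
    (f * x * e = 0 → ∑ t ∈ T e f, φ (x * t) = (T e f).card) ∧
      (f * x * e ≠ 0 → ∑ t ∈ T e f, φ (x * t) = 0) := by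
  have key : ∀ y, φ (x * (e * y * f)) = φ (f * x * e * y) := fun y => by
    rw [← mul_assoc, hs]; simp only [mul_assoc]
  refine ⟨fun h => ?_, fun h => ?_⟩
  · rw [sum_congr rfl (g := fun _ => 1) fun t ht => ?_]
    · simp
    · have := key t
      rw [(mem_T.1 ht).1, (mem_T.1 ht).2, h, zero_mul, AddChar.map_zero_eq_one] at this
      exact this
  · obtain ⟨y, hy⟩ := hn _ h
    rw [← key] at hy
    have h0 : e * y * f ∈ T e f := mem_T.2 ⟨by rw [← mul_assoc, ← mul_assoc, he],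
      by rw [mul_assoc, hf]⟩
    have : ∑ t ∈ T e f, φ (x * t) * φ (x * (e * y * f)) = ∑ t ∈ T e f, φ (x * t) := by
      refine sum_nbij' (fun t => t + e * y * f) (fun t => t - e * y * f) ?_ ?_ ?_ ?_ ?_
      · intro t ht
        exact mem_T.2 ⟨by rw [mul_add, (mem_T.1 ht).1, (mem_T.1 h0).1],
          by rw [add_mul, (mem_T.1 ht).2, (mem_T.1 h0).2]⟩
      · intro t ht
        exact mem_T.2 ⟨by rw [mul_sub, (mem_T.1 ht).1, (mem_T.1 h0).1],
          by rw [sub_mul, (mem_T.1 ht).2, (mem_T.1 h0).2]⟩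
      · intro t _; simp
      · intro t _; simp
      · intro t _; rw [mul_add, AddChar.map_add_eq_mul]
    rw [← sum_mul] at this
    by_contra h2
    exact hy (mul_left_cancel₀ h2 (by rw [this, mul_one]))

theorem X_mul_T {E x t : C} (hx : x ∈ X E) (h1 : E * t = t) (h2 : t * E = t) (ht : t * t = 0) :
    x * (1 + t) ∈ X E ∧ x * (1 + t) + (1 - E) = (x + (1 - E)) * (1 + t) := by
  obtain ⟨a, b, c⟩ := mem_X.1 hx
  have : x * (1 + t) + (1 - E) = (x + (1 - E)) * (1 + t) := by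
    simp only [mul_add, add_mul, sub_mul, mul_one, one_mul, h1]; abel
  refine ⟨mem_X.2 ⟨by rw [← mul_assoc, a], ?_, this ▸ c.mul (unit_of_sq ht)⟩, this⟩
  rw [mul_add, add_mul, mul_one, b, mul_assoc, h2]

theorem T_mul_X {E x t : C} (hx : x ∈ X E) (h1 : E * t = t) (h2 : t * E = t) (ht : t * t = 0) :
    (1 + t) * x ∈ X E ∧ (1 + t) * x + (1 - E) = (1 + t) * (x + (1 - E)) := by
  obtain ⟨a, b, c⟩ := mem_X.1 hx
  have : (1 + t) * x + (1 - E) = (1 + t) * (x + (1 - E)) := by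
    simp only [mul_add, add_mul, mul_sub, mul_one, one_mul, h2]; abel
  refine ⟨mem_X.2 ⟨?_, by rw [mul_assoc, b], this ▸ (unit_of_sq ht).mul c⟩, this⟩
  rw [add_mul, mul_add, one_mul, a, ← mul_assoc, h1]

theorem T_facts {e f t : C} (he : e * e = e) (hf : f * f = f) (hef : e * f = 0) (hfe : f * e = 0)
    (ht : t ∈ T e f) : (e + f) * t = t ∧ t * (e + f) = t ∧ t * t = 0 ∧ f * t = 0 ∧ t * e = 0 := by
  obtain ⟨a, b⟩ := mem_T.1 ht
  have h1 : f * t = 0 := by rw [← a, ← mul_assoc, hfe, zero_mul]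
  have h2 : t * e = 0 := by rw [← b, mul_assoc, hfe, mul_zero]
  refine ⟨by rw [add_mul, a, h1, add_zero], by rw [mul_add, b, h2, zero_add], ?_, h1, h2⟩
  conv_lhs => rw [← a, ← mul_assoc, a, h2, zero_mul]

theorem tri {e f a d b : C} (he : e * e = e) (hf : f * f = f) (hef : e * f = 0) (hfe : f * e = 0)
    (ha : e * a = a) (ha' : a * e = a) (hd : f * d = d) (hd' : d * f = d) (hb : b ∈ T e f) :
    a + d + b + (1 - (e + f)) = (d + (1 - f)) * (1 + b) * (a + (1 - e)) := by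
  obtain ⟨-, -, -, h1, h2⟩ := T_facts he hf hef hfe hb
  have h3 : d * b = 0 := by rw [← hd', mul_assoc, h1, mul_zero]
  have h4 : b * a = 0 := by rw [← ha, ← mul_assoc, h2, zero_mul]
  have h5 : d * e = 0 := by rw [← hd', mul_assoc, hfe, mul_zero]
  have h6 : f * a = 0 := by rw [← ha, ← mul_assoc, hfe, zero_mul]
  have h7 : d * a = 0 := by rw [← hd', mul_assoc, h6, mul_zero]
  simp only [mul_add, add_mul, mul_sub, sub_mul, mul_one, one_mul, h1, h2, h3, h4, h5, h6, h7, hfe,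
    zero_mul]
  abel

theorem tri_mem {e f x : C} (he : e * e = e) (hf : f * f = f) (hef : e * f = 0) (hfe : f * e = 0)
    (hx : x ∈ X (e + f)) (h : f * x * e = 0) :
    e * x * e ∈ X e ∧ f * x * f ∈ X f ∧ e * x * f ∈ T e f ∧
      e * x * e + f * x * f + e * x * f = x := by
  obtain ⟨a, b, c⟩ := mem_X.1 hx
  have hxe : x * e = e * x * e := by
    conv_lhs => rw [← a, add_mul, add_mul, h, add_zero]
  have hfx : f * x = f * x * f := by
    conv_lhs => rw [← b, ← mul_assoc, mul_add, h, zero_add]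
  have e1 : e * (e * x * e) = e * x * e := by rw [← mul_assoc, ← mul_assoc, he]
  have e2 : f * x * f * f = f * x * f := by rw [mul_assoc, hf]
  refine ⟨mem_X.2 ⟨e1, by rw [mul_assoc, he], ?_⟩,
    mem_X.2 ⟨by rw [← mul_assoc, ← mul_assoc, hf], e2, ?_⟩,
    mem_T.2 ⟨by rw [← mul_assoc, ← mul_assoc, he], by rw [mul_assoc, hf]⟩, ?_⟩
  · refine IsLeftRegular.isUnit_of_finite (isLeftRegular_iff_right_eq_zero_of_mul.2 fun z hz => ?_)
    have h1 : e * x * e * z = 0 := by
      have := congrArg (e * ·) hz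
      simpa only [← mul_assoc, mul_add, mul_sub, he, mul_one, sub_self, add_zero, mul_zero] using this
    have h2 : e * z = z := by
      rw [add_mul, h1, zero_add, sub_mul, one_mul, sub_eq_zero] at hz; exact hz.symm
    refine c.mul_right_eq_zero.1 ?_
    have h3 : (x + (1 - (e + f))) * e = e * x * e := by
      rw [add_mul, hxe, sub_mul, add_mul, he, hfe, one_mul, add_zero, sub_self, add_zero]
    rw [← h2, ← mul_assoc, h3, h1]
  · refine IsRightRegular.isUnit_of_finite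
      (isRightRegular_iff_left_eq_zero_of_mul.2 fun z hz => ?_)
    have h1 : z * (f * x * f) = 0 := by
      have := congrArg (· * f) hz
      simpa only [mul_assoc, add_mul, sub_mul, hf, one_mul, sub_self, add_zero, zero_mul] using this
    have h2 : z * f = z := by
      rw [mul_add, h1, zero_add, mul_sub, mul_one, sub_eq_zero] at hz; exact hz.symm
    refine c.mul_left_eq_zero.1 ?_
    have h3 : f * (x + (1 - (e + f))) = f * x * f := by
      rw [mul_add, ← hfx, mul_sub, mul_add, hf, hfe, mul_one, zero_add, sub_self, add_zero]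
    rw [← h2, mul_assoc, h3, h1]
  · rw [← hfx, add_right_comm, ← mul_add, mul_assoc, b, ← add_mul, a]

theorem step {φ : AddChar C ℂ} (hs : ∀ x y, φ (x * y) = φ (y * x))
    (hn : ∀ z, z ≠ 0 → ∃ y, φ (z * y) ≠ 1) {θ : C → ℂ}
    (hm : ∀ x y, IsUnit x → IsUnit y → θ (x * y) = θ x * θ y)
    (hu : ∀ t, t * t = 0 → θ (1 + t) = 1) {e f : C}
    (he : e * e = e) (hf : f * f = f) (hef : e * f = 0) (hfe : f * e = 0) :
    Fe φ θ (e + f) = (T e f).card * Fe φ θ e * Fe φ θ f := by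
  classical
  have h1 : ∀ t ∈ T e f, Fe φ θ (e + f) =
      ∑ x ∈ X (e + f), φ x * θ (x + (1 - (e + f))) * φ (x * t) := fun t ht => by
    obtain ⟨a, b, c, -, -⟩ := T_facts he hf hef hfe ht
    have c' : -t * -t = 0 := by rw [neg_mul_neg, c]
    symm
    refine sum_nbij' (fun x => x * (1 + t)) (fun x => x * (1 + -t)) ?_ ?_ ?_ ?_ ?_
    · exact fun x hx => (X_mul_T hx a b c).1
    · exact fun x hx => (X_mul_T hx (by rw [mul_neg, a]) (by rw [neg_mul, b]) c').1
    · intro x _; simp [mul_assoc, mul_add, add_mul, c]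
    · intro x _; simp [mul_assoc, mul_add, add_mul, c]
    · intro x hx
      rw [(X_mul_T hx a b c).2, hm _ _ (mem_X.1 hx).2.2 (unit_of_sq c), hu t c, mul_add, mul_one,
        AddChar.map_add_eq_mul]
      ring
  have hc : ((T e f).card : ℂ) ≠ 0 :=
    Nat.cast_ne_zero.2 (card_ne_zero.2 ⟨0, mem_T.2 ⟨mul_zero _, zero_mul _⟩⟩)
  have h2 : Fe φ θ (e + f) = ∑ x ∈ (X (e + f)).filter (fun x => f * x * e = 0),
      φ x * θ (x + (1 - (e + f))) := by
    refine mul_left_cancel₀ hc ?_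
    rw [← nsmul_eq_mul, ← sum_const, sum_congr rfl h1, sum_comm, sum_filter, mul_sum]
    refine sum_congr rfl fun x _ => ?_
    rw [← mul_sum]
    split_ifs with h
    · rw [(sum_T hs hn he hf x).1 h, mul_comm]
    · rw [(sum_T hs hn he hf x).2 h, mul_zero, mul_zero]
  have h3 : (T e f).card * Fe φ θ e * Fe φ θ f = ∑ y ∈ T e f ×ˢ X e ×ˢ X f,
      φ y.2.1 * θ (y.2.1 + (1 - e)) * (φ y.2.2 * θ (y.2.2 + (1 - f))) := by
    rw [sum_product, mul_assoc, Fe, Fe, sum_mul_sum, ← sum_product', ← nsmul_eq_mul, ← sum_const]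
  rw [h2, h3]
  symm
  refine sum_nbij' (fun y => y.2.1 + y.2.2 + y.1) (fun x => (e * x * f, e * x * e, f * x * f))
    ?_ ?_ ?_ ?_ ?_
  · rintro ⟨b, a, d⟩ hy
    simp only [mem_product] at hy
    obtain ⟨hb, ha, hd⟩ := hy
    obtain ⟨a1, a2, a3⟩ := mem_X.1 ha
    obtain ⟨d1, d2, d3⟩ := mem_X.1 hd
    obtain ⟨b1, b2, b3, b4, b5⟩ := T_facts he hf hef hfe hb
    have h5 : d * e = 0 := by rw [← d2, mul_assoc, hfe, mul_zero]
    have h6 : f * a = 0 := by rw [← a1, ← mul_assoc, hfe, zero_mul]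
    have h7 : e * d = 0 := by rw [← d1, ← mul_assoc, hef, zero_mul]
    have h8 : a * f = 0 := by rw [← a2, mul_assoc, hef, mul_zero]
    refine mem_filter.2 ⟨mem_X.2 ⟨?_, ?_, ?_⟩, ?_⟩
    · rw [mul_add, mul_add, b1, add_mul, add_mul, a1, d1, h6, h7, add_zero, zero_add]
    · rw [add_mul, add_mul, b2, mul_add, mul_add, a2, d2, h5, h8, add_zero, zero_add]
    · rw [tri he hf hef hfe a1 a2 d1 d2 hb]
      exact (d3.mul (unit_of_sq b3)).mul a3
    · rw [mul_add, mul_add, h6, d1, b4, zero_add, add_zero, h5]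
  · intro x hx
    obtain ⟨h4, h5, h6, -⟩ := tri_mem he hf hef hfe (mem_filter.1 hx).1 (mem_filter.1 hx).2
    simp only [mem_product]
    exact ⟨h6, h4, h5⟩
  · rintro ⟨b, a, d⟩ hy
    simp only [mem_product] at hy
    obtain ⟨hb, ha, hd⟩ := hy
    obtain ⟨a1, a2, a3⟩ := mem_X.1 ha
    obtain ⟨d1, d2, d3⟩ := mem_X.1 hd
    obtain ⟨b1, b2, b3, b4, b5⟩ := T_facts he hf hef hfe hb
    have h6 : f * a = 0 := by rw [← a1, ← mul_assoc, hfe, zero_mul]
    have h7 : e * d = 0 := by rw [← d1, ← mul_assoc, hef, zero_mul]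
    have h8 : a * f = 0 := by rw [← a2, mul_assoc, hef, mul_zero]
    simp only [mul_add, add_mul, a1, a2, d1, d2, b4, b5, h6, h7, h8, (mem_T.1 hb).1, (mem_T.1 hb).2,
      zero_mul, add_zero, zero_add]
  · intro x hx
    exact (tri_mem he hf hef hfe (mem_filter.1 hx).1 (mem_filter.1 hx).2).2.2.2
  · rintro ⟨b, a, d⟩ hy
    simp only [mem_product] at hy
    obtain ⟨hb, ha, hd⟩ := hy
    obtain ⟨a1, a2, a3⟩ := mem_X.1 ha
    obtain ⟨d1, d2, d3⟩ := mem_X.1 hd
    obtain ⟨b1, b2, b3, b4, b5⟩ := T_facts he hf hef hfe hb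
    have h9 : φ b = 1 := by rw [← (mem_T.1 hb).1, hs, b5, AddChar.map_zero_eq_one]
    simp only
    rw [tri he hf hef hfe a1 a2 d1 d2 hb, hm _ _ (d3.mul (unit_of_sq b3)) a3,
      hm _ _ d3 (unit_of_sq b3), hu b b3, AddChar.map_add_eq_mul, AddChar.map_add_eq_mul, h9]
    ring

theorem gen {θ : C → ℂ} (hm : ∀ x y, IsUnit x → IsUnit y → θ (x * y) = θ x * θ y)
    (hu : ∀ t, t * t = 0 → θ (1 + t) = 1) {e f : C}
    (he : e * e = e) (hf : f * f = f) (hef : e * f = 0) (hfe : f * e = 0) (h0 : e ≠ 0)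
    (hp : ∀ a, e * a = a → a * e = a → a ≠ 0 → IsUnit (a + (1 - e)))
    (h1 : ∀ x ∈ X e, θ (x + (1 - e)) = 1) (h2 : ∀ x ∈ X f, θ (x + (1 - f)) = 1) :
    ∀ x ∈ X (e + f), θ (x + (1 - (e + f))) = 1 := by
  have k1 : ∀ x ∈ X (e + f), f * x * e = 0 → θ (x + (1 - (e + f))) = 1 := fun x hx h => by
    obtain ⟨ha, hd, hb, h4⟩ := tri_mem he hf hef hfe hx h
    obtain ⟨a1, a2, a3⟩ := mem_X.1 ha
    obtain ⟨d1, d2, d3⟩ := mem_X.1 hd
    obtain ⟨b1, b2, b3, b4, b5⟩ := T_facts he hf hef hfe hb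
    rw [← h4, tri he hf hef hfe a1 a2 d1 d2 hb, hm _ _ (d3.mul (unit_of_sq b3)) a3,
      hm _ _ d3 (unit_of_sq b3), hu _ b3, h1 _ ha, h2 _ hd]
    ring
  have k2 : ∀ x ∈ X (e + f), e * x * e ≠ 0 → θ (x + (1 - (e + f))) = 1 := fun x hx h => by
    obtain ⟨v, hv⟩ := (hp _ (by rw [← mul_assoc, ← mul_assoc, he]) (by rw [mul_assoc, he])
      h).exists_left_inv
    have hv' : v * (e * x * e) = e := by
      have := congrArg (· * e) hv
      simpa only [mul_assoc, add_mul, sub_mul, he, one_mul, sub_self, add_zero] using this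
    have hs : -(f * x * e * v * e) ∈ T f e := mem_T.2 ⟨by simp only [mul_neg, ← mul_assoc, hf],
      by simp only [neg_mul, mul_assoc, he]⟩
    obtain ⟨b1, b2, b3, -, -⟩ := T_facts hf he hfe hef hs
    rw [add_comm f e] at b1 b2
    obtain ⟨c1, c2⟩ := T_mul_X hx b1 b2 b3
    have := k1 _ c1 (by
      rw [add_mul, mul_add, one_mul, add_mul, ← mul_assoc, (mem_T.1 hs).1]
      have : f * x * e * v * e * x * e = f * x * e * (v * (e * x * e)) := by simp only [mul_assoc]
      rw [neg_mul, neg_mul, this, hv', mul_assoc (f * x), he, add_neg_cancel])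
    rwa [c2, hm _ _ (unit_of_sq b3) (mem_X.1 hx).2.2, hu _ b3, one_mul] at this
  intro x hx
  by_cases h : e * x * e = 0
  · obtain ⟨a, b, c⟩ := mem_X.1 hx
    obtain ⟨w, hw⟩ := c.exists_right_inv
    have hs : f * w * e ∈ T f e := mem_T.2 ⟨by simp only [← mul_assoc, hf],
      by simp only [mul_assoc, he]⟩
    obtain ⟨b1, b2, b3, -, -⟩ := T_facts hf he hfe hef hs
    rw [add_comm f e] at b1 b2
    obtain ⟨c1, c2⟩ := X_mul_T hx b1 b2 b3
    have h3 : e * x * w = e := by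
      have := congrArg (e * ·) hw
      simpa only [← mul_assoc, mul_add, mul_sub, he, hef, mul_one, add_zero, sub_self] using this
    have h4 : e * x = e * x * f := by
      conv_lhs => rw [← b, ← mul_assoc, mul_add, h, zero_add]
    have := k2 _ c1 (by
      rw [mul_add, mul_add, add_mul, mul_one, h, zero_add]
      simp only [← mul_assoc]
      rw [← h4, h3, he, he]
      exact h0)
    rwa [c2, hm _ _ c (unit_of_sq b3), hu _ b3, mul_one] at this
  · exact k2 x hx h

end CL.KGA2
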