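import Cfsg.Agent.KGV.A.Kon2a

/-! Gauss sums over corner rings of a finite ring: the primitive case and the induction. -/

set_option autoImplicit false
set_option linter.unusedSectionVars false
set_option linter.unusedVariables false
open Finset
open scoped ComplexConjugate

namespace CL.KGA2

variable {C : Type*} [Ring C] [Fintype C]

theorem X_mul {e u y : C} (he : e * e = e) (hu : u ∈ X e) (hy : y ∈ X e) :
    u * y ∈ X e ∧ u * y + (1 - e) = (u + (1 - e)) * (y + (1 - e)) := by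
  obtain ⟨a, b, c⟩ := mem_X.1 hu
  obtain ⟨a', b', c'⟩ := mem_X.1 hy
  have : u * y + (1 - e) = (u + (1 - e)) * (y + (1 - e)) := by
    simp only [mul_add, add_mul, mul_sub, sub_mul, mul_one, one_mul, a', b, he]; abel
  exact ⟨mem_X.2 ⟨by rw [← mul_assoc, a], by rw [mul_assoc, b'], this ▸ c.mul c'⟩, this⟩

theorem sum_X_mul {e y : C} (he : e * e = e) (hy : y ∈ X e) (F : C → ℂ) :
    ∑ u ∈ X e, F (u * y) = ∑ x ∈ X e, F x := by
  classical
  have hinj : Set.InjOn (· * y) (X e) := fun u hu v hv h => by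
    have h' : u * y = v * y := h
    have := (X_mul he hu hy).2
    rw [h', (X_mul he hv hy).2] at this
    exact add_right_cancel ((mem_X.1 hy).2.2.mul_right_cancel this).symm
  have : (X e).image (· * y) = X e := eq_of_subset_of_card_le
    (fun x hx => by obtain ⟨u, hu, rfl⟩ := mem_image.1 hx; exact (X_mul he hu hy).1)
    (by rw [card_image_of_injOn hinj])
  conv_rhs => rw [← this, sum_image hinj]

theorem prim {φ : AddChar C ℂ} (hs : ∀ x y, φ (x * y) = φ (y * x))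
    (hn : ∀ z, z ≠ 0 → ∃ y, φ (z * y) ≠ 1) (hc : ∀ x, conj (φ x) = φ (-x)) {θ : C → ℂ}
    (hm : ∀ x y, IsUnit x → IsUnit y → θ (x * y) = θ x * θ y)
    (hθ : ∀ x, IsUnit x → θ x * conj (θ x) = 1) {e : C} (he : e * e = e) (h0 : e ≠ 0)
    (hp : ∀ a, e * a = a → a * e = a → a ≠ 0 → IsUnit (a + (1 - e))) :
    Fe φ (fun _ => 1) e = -1 ∧ ((∃ x ∈ X e, θ (x + (1 - e)) ≠ 1) →
      ∑ x ∈ X e, θ (x + (1 - e)) = 0 ∧ ‖Fe φ θ e‖ ^ 2 = (T e e).card) := by
  classical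
  have h0' : (0 : C) ∈ T e e := mem_T.2 ⟨mul_zero _, zero_mul _⟩
  have hX : X e = (T e e).erase 0 := by
    ext x
    rw [mem_erase, mem_X, mem_T]
    refine ⟨fun h => ⟨?_, h.1, h.2.1⟩, fun h => ⟨h.2.1, h.2.2, hp x h.2.1 h.2.2 h.1⟩⟩
    rintro rfl
    exact h0 (h.2.2.mul_right_eq_zero.1 (by rw [zero_add, sub_mul, one_mul, he, sub_self]))
  have hsum : ∀ z, ∑ y ∈ X e, φ (z * y) = ∑ y ∈ T e e, φ (z * y) - 1 := fun z => by
    rw [hX, ← add_sum_erase _ _ h0', mul_zero, AddChar.map_zero_eq_one]; ring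
  refine ⟨?_, fun ⟨u, hu, hu1⟩ => ?_⟩
  · have := hsum 1
    rw [(sum_T hs hn he he 1).2 (by rwa [mul_one, he])] at this
    simpa [Fe] using this
  have h1 : ∑ x ∈ X e, θ (x + (1 - e)) = 0 := by
    have := sum_X_mul he hu fun x => θ (x + (1 - e))
    rw [sum_congr rfl fun x hx => by
      rw [(X_mul he hx hu).2, hm _ _ (mem_X.1 hx).2.2 (mem_X.1 hu).2.2], ← sum_mul] at this
    by_contra h2
    exact hu1 (mul_left_cancel₀ h2 (by rw [this, mul_one]))
  refine ⟨h1, ?_⟩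
  have hee : e ∈ X e := mem_X.2 ⟨he, he, by rw [add_sub_cancel]; exact isUnit_one⟩
  have h2 : Fe φ θ e * conj (Fe φ θ e) = (T e e).card := by
    have : Fe φ θ e * conj (Fe φ θ e) = ∑ y ∈ X e, ∑ v ∈ X e, θ (v + (1 - e)) * φ ((v - e) * y) := by
      conv_lhs => rw [mul_comm]; arg 1; rw [Fe, map_sum]
      rw [sum_mul]
      refine sum_congr rfl fun y hy => ?_
      rw [Fe, ← sum_X_mul he hy, mul_sum]
      refine sum_congr rfl fun v hv => ?_
      rw [(X_mul he hv hy).2, hm _ _ (mem_X.1 hv).2.2 (mem_X.1 hy).2.2, map_mul, hc, sub_mul,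
        (mem_X.1 hy).1, sub_eq_add_neg (v * y), AddChar.map_add_eq_mul]
      linear_combination φ (v * y) * φ (-y) * θ (v + (1 - e)) * hθ _ (mem_X.1 hy).2.2
    rw [this, sum_comm]
    simp only [← mul_sum, hsum, mul_sub, mul_one, sum_sub_distrib, h1, sub_zero]
    rw [sum_eq_single e, (sum_T hs hn he he _).1 (by simp), add_sub_cancel]
    · have h3 := hm 1 1 isUnit_one isUnit_one
      have h4 := hθ 1 isUnit_one
      rw [mul_one] at h3
      have h5 : θ 1 ≠ 0 := fun h => by simp [h] at h4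
      rw [mul_left_cancel₀ h5 (h3.symm.trans (mul_one _).symm), one_mul]
    · intro v hv hve
      rw [(sum_T hs hn he he _).2, mul_zero]
      rwa [mul_sub, sub_mul, (mem_X.1 hv).1, (mem_X.1 hv).2.1, he, he, sub_ne_zero]
    · exact fun h => (h hee).elim
  rw [Complex.mul_conj, Complex.normSq_eq_norm_sq] at h2
  exact_mod_cast h2

theorem exists_prim (hr : ∀ x : C, ∃ y, x * y * x = x) {E : C} (hE : E * E = E) (h0 : E ≠ 0) :
    ∃ e, e * e = e ∧ e ≠ 0 ∧ E * e = e ∧ e * E = e ∧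
      ∀ a, e * a = a → a * e = a → a ≠ 0 → IsUnit (a + (1 - e)) := by
  classical
  obtain ⟨e, he, hmin⟩ := exists_min_image
    (univ.filter fun e : C => e * e = e ∧ e ≠ 0 ∧ E * e = e ∧ e * E = e) (fun e => (T e 1).card)
    ⟨E, by simp [hE, h0]⟩
  obtain ⟨h1, h2, h3, h4⟩ := (mem_filter.1 he).2
  refine ⟨e, h1, h2, h3, h4, fun a a1 a2 a0 => ?_⟩
  obtain ⟨y, hy⟩ := hr a
  have k1 : a * y * e * a = a := by rw [mul_assoc, a1, hy]
  have k2 : a * y * e * (a * y * e) = a * y * e := by rw [← mul_assoc, ← mul_assoc, k1]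
  have k3 := hmin (a * y * e) (mem_filter.2 ⟨mem_univ _, k2,
    fun h => a0 (by rw [← k1, h, zero_mul]),
    by rw [← mul_assoc, ← mul_assoc, ← a1, ← mul_assoc, h3], by rw [mul_assoc, h4]⟩)
  have k4 : T (a * y * e) 1 = T e 1 := eq_of_subset_of_card_le (fun t ht => mem_T.2
    ⟨by rw [← (mem_T.1 ht).1, ← mul_assoc, ← mul_assoc, ← mul_assoc, a1], mul_one _⟩) k3
  have k5 : a * y * e = e := by
    have := (mem_T.1 (k4 ▸ mem_T.2 ⟨h1, mul_one _⟩ : e ∈ T (a * y * e) 1)).1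
    rwa [mul_assoc, h1] at this
  refine IsUnit.of_mul_eq_one (e * y * e + (1 - e)) ?_
  simp only [mul_add, add_mul, mul_sub, sub_mul, mul_one, one_mul, ← mul_assoc, a2, h1, k5]
  abel

theorem main {φ : AddChar C ℂ} (hs : ∀ x y, φ (x * y) = φ (y * x))
    (hn : ∀ z, z ≠ 0 → ∃ y, φ (z * y) ≠ 1) (hc : ∀ x, conj (φ x) = φ (-x)) {θ : C → ℂ}
    (hm : ∀ x y, IsUnit x → IsUnit y → θ (x * y) = θ x * θ y)
    (hθ : ∀ x, IsUnit x → θ x * conj (θ x) = 1) (hu : ∀ t, t * t = 0 → θ (1 + t) = 1)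
    (hr : ∀ x : C, ∃ y, x * y * x = x) (hi : ∀ x, IsUnit x → IsIntegral ℤ (θ x))
    {π : ℂ} (hπ : ∀ x, IsIntegral ℤ (φ x) ∧ ∃ b, IsIntegral ℤ b ∧ φ x = 1 + π * b)
    {p : ℕ} (hT : ∀ e f : C, ∃ k, (T e f).card = p ^ k) (hp0 : p ≠ 0) (s r : C → ℕ)
    (hsr : ∀ e f, e * e = e → f * f = f → e * f = 0 → f * e = 0 →
      s (e + f) = s e * s f ∧ r (e + f) = r e * r f) (hle : ∀ e, r e ≤ s e)
    (hpr : ∀ e, e * e = e → e ≠ 0 → (∀ a, e * a = a → a * e = a → a ≠ 0 → IsUnit (a + (1 - e))) →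
      (∃ x ∈ X e, θ (x + (1 - e)) ≠ 1) → (T e e).card * r e ≤ s e) (n : ℕ) :
    ∀ E : C, E * E = E → (T E 1).card = n → ∃ (j : ℕ) (A : ℂ),
      (Fe φ (fun _ => 1) E = p ^ j ∨ Fe φ (fun _ => 1) E = -p ^ j) ∧
      Fe φ θ E = Fe φ (fun _ => 1) E * A ∧ IsIntegral ℤ A ∧ ‖A‖ ^ 2 * r E ≤ s E ∧
      ((∃ x ∈ X E, θ (x + (1 - E)) ≠ 1) → ∃ B, IsIntegral ℤ B ∧ A = π * B) := by
  classical
  induction n using Nat.strong_induction_on with | _ n ih => ?_
  intro E hE hn'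
  by_cases h0 : E = 0
  · have hX : X E = {0} := by
      ext x
      rw [mem_X, mem_singleton, h0]
      exact ⟨fun h => by rw [← h.1, zero_mul], fun h => by simp [h]⟩
    have h1 : θ 1 = 1 := by simpa using hu 0 (mul_zero _)
    refine ⟨0, 1, Or.inl ?_, ?_, isIntegral_one, by simpa using hle E, fun ⟨x, hx, h⟩ => ?_⟩
    · simp [Fe, hX]
    · simp [Fe, hX, h0 ▸ hX, h0, h1]
    · rw [hX, mem_singleton] at hx
      exact (h (by simp [hx, h0, h1])).elim
  obtain ⟨e, he, e0, h3, h4, hp⟩ := exists_prim hr hE h0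
  obtain ⟨f, rfl⟩ : ∃ f, E = e + f := ⟨E - e, by abel⟩
  have hef : e * f = 0 := by simpa [mul_add, he] using h4
  have hfe : f * e = 0 := by simpa [add_mul, he] using h3
  have hf : f * f = f := by simpa [add_mul, mul_add, he, hef, hfe] using hE
  obtain ⟨j, A, a1, a2, a3, a4, a5⟩ := ih _ (hn' ▸ card_lt_card (ssubset_iff_of_subset
    (fun t ht => mem_T.2 ⟨by rw [← (mem_T.1 ht).1, ← mul_assoc, add_mul, hef, hf, zero_add],
      mul_one _⟩) |>.2 ⟨e, mem_T.2 ⟨h3, mul_one _⟩, fun h => e0 (by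
        rw [← (mem_T.1 h).1, hfe])⟩)) f hf rfl
  obtain ⟨b1, b2⟩ := prim hs hn hc hm hθ he e0 hp
  obtain ⟨k, hk⟩ := hT e f
  have s1 := step hs hn hm hu he hf hef hfe
  have s2 := step (θ := fun _ => 1) hs hn (by simp) (by simp) he hf hef hfe
  have i1 : IsIntegral ℤ (Fe φ θ e) :=
    IsIntegral.sum _ fun x hx => (hπ x).1.mul (hi _ (mem_X.1 hx).2.2)
  have triv : (¬∃ x ∈ X e, θ (x + (1 - e)) ≠ 1) → Fe φ θ e = -1 := fun h => by
    rw [← b1]
    exact sum_congr rfl fun x hx => by rw [not_not.1 fun h' => h ⟨x, hx, h'⟩]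
  refine ⟨k + j, -Fe φ θ e * A, ?_, ?_, i1.neg.mul a3, ?_, fun ⟨x, hx, hx1⟩ => ?_⟩
  · rw [s2, b1, hk]
    rcases a1 with h | h <;> rw [h]
    · right; push_cast; ring
    · left; push_cast; ring
  · rw [s1, s2, b1, a2]; ring
  · have : ‖Fe φ θ e‖ ^ 2 * r e ≤ s e := by
      by_cases h : ∃ x ∈ X e, θ (x + (1 - e)) ≠ 1
      · rw [(b2 h).2]; exact_mod_cast hpr e he e0 hp h
      · rw [triv h]; simpa using hle e
    rw [(hsr e f he hf hef hfe).1, (hsr e f he hf hef hfe).2, norm_mul, norm_neg]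
    push_cast
    calc _ = (‖Fe φ θ e‖ ^ 2 * r e) * (‖A‖ ^ 2 * r f) := by ring
      _ ≤ _ := mul_le_mul this a4 (by positivity) (by positivity)
  · by_cases h : ∃ x ∈ X e, θ (x + (1 - e)) ≠ 1
    · choose b hb hb' using fun x => (hπ x).2
      refine ⟨-(∑ x ∈ X e, b x * θ (x + (1 - e))) * A, (IsIntegral.sum _ fun x hx =>
        (hb x).mul (hi _ (mem_X.1 hx).2.2)).neg.mul a3, ?_⟩
      have : Fe φ θ e = π * ∑ x ∈ X e, b x * θ (x + (1 - e)) := by
        rw [Fe, mul_sum, ← zero_add (∑ x ∈ X e, π * _), ← (b2 h).1, ← sum_add_distrib]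
        exact sum_congr rfl fun x _ => by rw [hb']; ring
      rw [this]; ring
    · obtain ⟨B, B1, B2⟩ := a5 (by
        by_contra h'
        exact hx1 (gen hm hu he hf hef hfe e0 hp (fun x hx => not_not.1 fun h'' => h ⟨x, hx, h''⟩)
          (fun x hx => not_not.1 fun h'' => h' ⟨x, hx, h''⟩) x hx))
      exact ⟨-Fe φ θ e * B, i1.neg.mul B1, by rw [B2]; ring⟩

end CL.KGA2
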