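import Mathlib

set_option autoImplicit false
set_option linter.unusedSectionVars false

namespace CL.KGA.Kd

open Module

universe u

variable {p : ℕ} [Fact p.Prime] {R : Type} [CommRing R] [Algebra (ZMod p) R]

section defs
variable (p R)
variable (V : Type u) [AddCommGroup V] [Module R V] [Module (ZMod p) V] [IsScalarTower (ZMod p) R V]

/-- trace over the prime field -/
noncomputable def tr : End R V →+ ZMod p where
  toFun x := LinearMap.trace (ZMod p) V (x.restrictScalars (ZMod p))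
  map_zero' := by simp
  map_add' x y := by rw [← map_add]; rfl

/-- the Gauss sum -/
noncomputable def GS (ψ : AddChar (ZMod p) ℂ) (θ : (End R V)ˣ →* ℂ) : ℂ :=
  ∑ᶠ x : (End R V)ˣ, ψ (tr p R V x.1) * θ x

end defs

variable {V U W : Type u} [AddCommGroup V] [Module R V] [Module (ZMod p) V]
  [IsScalarTower (ZMod p) R V] [AddCommGroup U] [Module R U] [Module (ZMod p) U]
  [IsScalarTower (ZMod p) R U] [AddCommGroup W] [Module R W] [Module (ZMod p) W]
  [IsScalarTower (ZMod p) R W] [Finite V] [Finite U] [Finite W]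

theorem tr_comm (f : V →ₗ[R] U) (g : U →ₗ[R] V) : tr p R U (f ∘ₗ g) = tr p R V (g ∘ₗ f) :=
  LinearMap.trace_comp_comm' (g.restrictScalars (ZMod p)) (f.restrictScalars (ZMod p))

theorem tr_smul (k : ZMod p) (x : End R V) : tr p R V (k • x) = k * tr p R V x := by
  change LinearMap.trace (ZMod p) V (k • x.restrictScalars (ZMod p)) = _
  rw [map_smul]; rfl

theorem fin_hom : Finite (V →ₗ[R] U) := Finite.of_injective _ DFunLike.coe_injective

theorem unip (θ : (End R V)ˣ →* ℂ) {N : ℕ} (hN : ¬ p ∣ N) (hθ : ∀ x, θ x ^ N = 1)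
    (u : (End R V)ˣ) (n : End R V) (hu : u.1 = 1 + n) (hn : n * n = 0) : θ u = 1 := by
  have hp : p.Prime := Fact.out
  have h1 : ∀ k : ℕ, (1 + n) ^ k = 1 + k • n := by
    intro k
    induction k with
    | zero => simp
    | succ k ih =>
      rw [pow_succ, ih, succ_nsmul]
      simp only [add_mul, mul_add, smul_mul_assoc, hn, smul_zero, mul_one, one_mul, add_zero]
      abel
  have h2 : u ^ p = 1 := by
    apply Units.ext
    rw [Units.val_pow_eq_pow_val, hu, h1]
    have : p • n = 0 := by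
      ext v
      rw [LinearMap.smul_apply, ← Nat.cast_smul_eq_nsmul (ZMod p), ZMod.natCast_self, zero_smul]
      rfl
    rw [this]; simp
  have h3 : θ u ^ p = 1 := by rw [← map_pow, h2, map_one]
  have h4 := pow_gcd_eq_one.2 ⟨h3, hθ u⟩
  rwa [(hp.coprime_iff_not_dvd.2 hN), pow_one] at h4

/-- biproduct data -/
structure Bi (R : Type) [CommRing R] (V U W : Type u) [AddCommGroup V] [Module R V]
    [AddCommGroup U] [Module R U] [AddCommGroup W] [Module R W] where
  iU : U →ₗ[R] V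
  iW : W →ₗ[R] V
  pU : V →ₗ[R] U
  pW : V →ₗ[R] W
  uu : ∀ u, pU (iU u) = u
  ww : ∀ w, pW (iW w) = w
  uw : ∀ w, pU (iW w) = 0
  wu : ∀ u, pW (iU u) = 0
  tot : ∀ v, iU (pU v) + iW (pW v) = v

namespace Bi
variable (b : Bi R V U W)

attribute [local simp] uu ww uw wu tot

/-- swap -/
def sw : Bi R V W U :=
  ⟨b.iW, b.iU, b.pW, b.pU, b.ww, b.uu, b.wu, b.uw, fun v => by rw [add_comm]; exact b.tot v⟩

/-- embedding of the first block -/
def eM : End R U →* End R V where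
  toFun a := b.iU ∘ₗ a ∘ₗ b.pU + b.iW ∘ₗ b.pW
  map_one' := by ext v; simp
  map_mul' a c := by ext v; simp

/-- embedding of units -/
def e : (End R U)ˣ →* (End R V)ˣ := Units.map b.eM

theorem e_apply (a : (End R U)ˣ) (v : V) : (b.e a).1 v = b.iU (a.1 (b.pU v)) + b.iW (b.pW v) := rfl

theorem e'_apply (a : (End R W)ˣ) (v : V) :
    (b.sw.e a).1 v = b.iW (a.1 (b.pW v)) + b.iU (b.pU v) := rfl

/-- unipotent -/
def un (t : W →ₗ[R] U) : (End R V)ˣ where
  val := 1 + b.iU ∘ₗ t ∘ₗ b.pW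
  inv := 1 - b.iU ∘ₗ t ∘ₗ b.pW
  val_inv := by ext v; simp
  inv_val := by ext v; simp

theorem un_apply (t : W →ₗ[R] U) (v : V) : (b.un t).1 v = v + b.iU (t (b.pW v)) := rfl

theorem un_one (θ : (End R V)ˣ →* ℂ) {N : ℕ} (hN : ¬ p ∣ N) (hθ : ∀ x, θ x ^ N = 1)
    (t : W →ₗ[R] U) : θ (b.un t) = 1 :=
  unip θ hN hθ _ (b.iU ∘ₗ t ∘ₗ b.pW) rfl (by ext v; simp)

/-- the parabolic -/
def par (z : (End R U)ˣ × (End R W)ˣ × (W →ₗ[R] U)) : (End R V)ˣ :=
  b.e z.1 * b.sw.e z.2.1 * b.un z.2.2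

theorem par_apply (z : (End R U)ˣ × (End R W)ˣ × (W →ₗ[R] U)) (v : V) :
    (b.par z).1 v = b.iU (z.1.1 (b.pU v)) + b.iW (z.2.1.1 (b.pW v))
      + b.iU (z.1.1 (z.2.2 (b.pW v))) := by
  simp [par, e_apply, sw, un_apply]
  abel

theorem par_inj : Function.Injective b.par := by
  rintro ⟨a, d, t⟩ ⟨a', d', t'⟩ h
  have h' : ∀ v, (b.par (a, d, t)).1 v = (b.par (a', d', t')).1 v := fun v => by rw [h]
  simp only [par_apply] at h'
  have ha : a = a' := by
    ext u; simpa using congrArg b.pU (h' (b.iU u))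
  have hd : d = d' := by
    ext w; simpa using congrArg b.pW (h' (b.iW w))
  subst ha hd
  have ht : t = t' := by
    ext w
    have h2 : a.1 (t w) = a.1 (t' w) := by simpa using congrArg b.pU (h' (b.iW w))
    exact ((Module.End.isUnit_iff _).1 a.isUnit).1 h2
  rw [ht]

theorem par_c (z : (End R U)ˣ × (End R W)ˣ × (W →ₗ[R] U)) :
    b.pW ∘ₗ (b.par z).1 ∘ₗ b.iU = 0 := by
  ext u; simp [par_apply]

theorem par_surj (x : (End R V)ˣ) (hx : b.pW ∘ₗ x.1 ∘ₗ b.iU = 0) : x ∈ Set.range b.par := by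
  have hc : ∀ u, b.pW (x.1 (b.iU u)) = 0 := fun u => LinearMap.congr_fun hx u
  have hxb := (Module.End.isUnit_iff _).1 x.isUnit
  have h1 : ∀ u, b.iU (b.pU (x.1 (b.iU u))) = x.1 (b.iU u) := fun u => by
    simpa [hc] using b.tot (x.1 (b.iU u))
  have h2 : ∀ v, b.pW (x.1 (b.iW (b.pW v))) = b.pW (x.1 v) := fun v => by
    conv_rhs => rw [← b.tot v]
    rw [map_add, map_add, hc, zero_add]
  have ha : IsUnit (b.pU ∘ₗ x.1 ∘ₗ b.iU : End R U) := by
    rw [Module.End.isUnit_iff, ← Finite.injective_iff_bijective, injective_iff_map_eq_zero]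
    intro u hu
    have h3 : x.1 (b.iU u) = 0 := by
      rw [← h1]; change b.iU ((b.pU ∘ₗ x.1 ∘ₗ b.iU) u) = 0; rw [hu, map_zero]
    have h4 : b.iU u = 0 := hxb.1 (by rw [h3, map_zero])
    simpa using congrArg b.pU h4
  have hd : IsUnit (b.pW ∘ₗ x.1 ∘ₗ b.iW : End R W) := by
    rw [Module.End.isUnit_iff, ← Finite.surjective_iff_bijective]
    intro w
    obtain ⟨v, hv⟩ := hxb.2 (b.iW w)
    exact ⟨b.pW v, by simp [h2, hv]⟩
  obtain ⟨a, ha⟩ := ha
  obtain ⟨d, hd⟩ := hd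
  refine ⟨(a, d, (a⁻¹).1 ∘ₗ b.pU ∘ₗ x.1 ∘ₗ b.iW), ?_⟩
  ext v
  have h5 : ∀ u, a.1 ((a⁻¹).1 u) = u := fun u => by
    rw [← Module.End.mul_apply, Units.mul_inv]; rfl
  rw [par_apply]
  simp only [LinearMap.comp_apply, h5]
  rw [ha, hd]
  simp only [LinearMap.comp_apply, h1]
  rw [add_assoc, add_comm (b.iW _), b.tot, ← map_add, b.tot]

theorem tr_par (z : (End R U)ˣ × (End R W)ˣ × (W →ₗ[R] U)) :
    tr p R V (b.par z).1 = tr p R U z.1.1 + tr p R W z.2.1.1 := by
  have h : (b.par z).1 = b.iU ∘ₗ (z.1.1 ∘ₗ b.pU) + b.iW ∘ₗ (z.2.1.1 ∘ₗ b.pW)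
      + b.iU ∘ₗ (z.1.1 ∘ₗ z.2.2 ∘ₗ b.pW) := by
    ext v; rw [par_apply]; rfl
  rw [h, map_add, map_add, tr_comm, tr_comm b.iW, tr_comm b.iU]
  have h1 : (z.1.1 ∘ₗ b.pU) ∘ₗ b.iU = z.1.1 := by ext u; simp
  have h2 : (z.2.1.1 ∘ₗ b.pW) ∘ₗ b.iW = z.2.1.1 := by ext u; simp
  have h3 : (z.1.1 ∘ₗ z.2.2 ∘ₗ b.pW) ∘ₗ b.iU = 0 := by ext u; simp
  rw [h1, h2, h3, map_zero, add_zero]

theorem linv [IsSimpleModule R U] [IsSemisimpleModule R W] (c : U →ₗ[R] W) (hc : c ≠ 0) :
    ∃ t : W →ₗ[R] U, ∀ u, t (c u) = u := by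
  have hi : Function.Injective c := LinearMap.injective_of_ne_zero hc
  obtain ⟨q, hq⟩ := exists_isCompl (LinearMap.range c)
  refine ⟨(LinearEquiv.ofInjective c hi).symm.toLinearMap ∘ₗ
    (LinearMap.range c).projectionOnto q hq, fun u => ?_⟩
  simp only [LinearMap.comp_apply, LinearEquiv.coe_coe]
  rw [Submodule.projectionOnto_apply_of_mem_left hq (LinearMap.mem_range_self c u),
    LinearEquiv.symm_apply_eq]
  rfl

theorem step [IsSimpleModule R U] [IsSemisimpleModule R W] (ψ : AddChar (ZMod p) ℂ)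
    (hU : ∃ a : End R U, ψ (tr p R U a) ≠ 1)
    (θ : (End R V)ˣ →* ℂ) {N : ℕ} (hN : ¬ p ∣ N) (hθ : ∀ x, θ x ^ N = 1) :
    GS p R V ψ θ = Nat.card (W →ₗ[R] U) * GS p R U ψ (θ.comp b.e) * GS p R W ψ (θ.comp b.sw.e) := by
  classical
  have := fin_hom (R := R) (V := V) (U := V)
  have := fin_hom (R := R) (V := U) (U := U)
  have := fin_hom (R := R) (V := W) (U := W)
  have := fin_hom (R := R) (V := W) (U := U)
  have := Fintype.ofFinite (End R V)ˣ
  have := Fintype.ofFinite (End R U)ˣ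
  have := Fintype.ofFinite (End R W)ˣ
  have := Fintype.ofFinite (W →ₗ[R] U)
  simp only [GS, finsum_eq_sum_of_fintype]
  let φ : (End R V)ˣ → ℂ := fun x => ψ (tr p R V x.1) * θ x
  let c : (End R V)ˣ → (U →ₗ[R] W) := fun x => b.pW ∘ₗ x.1 ∘ₗ b.iU
  have hsplit : ∑ x, φ x = ∑ x, (if c x = 0 then φ x else 0) + ∑ x, (if c x = 0 then 0 else φ x) := by
    rw [← Finset.sum_add_distrib]
    refine Finset.sum_congr rfl fun x _ => ?_
    split_ifs <;> simp
  have hz : ∑ x, (if c x = 0 then 0 else φ x) = 0 := by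
    set T := ∑ x, (if c x = 0 then 0 else φ x) with hT
    let χ : (End R V)ˣ → AddChar (W →ₗ[R] U) ℂ := fun x => ψ.compAddMonoidHom
      ((tr p R U).comp
        { toFun := fun t => t ∘ₗ c x, map_zero' := by simp, map_add' := fun s t => by ext; simp })
    have h1 : ∀ t : W →ₗ[R] U, T = ∑ x, (if c x = 0 then 0 else φ x) * χ x t := by
      intro t
      refine (Equiv.sum_comp (Equiv.mulRight (b.un t)) (fun x => if c x = 0 then 0 else φ x)).symm.trans
        (Finset.sum_congr rfl fun x _ => ?_)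
      have hc : c (x * b.un t) = c x := by
        ext u; simp [c, un_apply]
      have hφ : φ (x * b.un t) = φ x * χ x t := by
        have h2 : (x * b.un t).1 = x.1 + (x.1 ∘ₗ b.iU) ∘ₗ (t ∘ₗ b.pW) := by
          ext v; simp [un_apply]
        have h3 : (t ∘ₗ b.pW) ∘ₗ (x.1 ∘ₗ b.iU) = t ∘ₗ c x := rfl
        simp only [φ]
        rw [h2, map_add, tr_comm (x.1 ∘ₗ b.iU), h3, AddChar.map_add_eq_mul, map_mul, b.un_one θ hN hθ]
        simp only [χ, AddChar.compAddMonoidHom_apply, AddMonoidHom.comp_apply]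
        simp only [AddMonoidHom.coe_mk, ZeroHom.coe_mk]
        ring
      simp only [Equiv.coe_mulRight, hc, hφ]
      split_ifs <;> simp
    have h4 : (Fintype.card (W →ₗ[R] U) : ℂ) * T = 0 := by
      have : (Fintype.card (W →ₗ[R] U) : ℂ) * T = ∑ t : W →ₗ[R] U, T := by simp
      rw [this, Finset.sum_congr rfl fun t _ => h1 t, Finset.sum_comm]
      refine Finset.sum_eq_zero fun x _ => ?_
      rw [← Finset.mul_sum]
      split_ifs with h
      · simp
      · obtain ⟨t, ht⟩ := linv (c x) h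
        obtain ⟨a, ha⟩ := hU
        rw [AddChar.sum_eq_zero_of_ne_one (ψ := χ x), mul_zero]
        rw [AddChar.ne_one_iff]
        refine ⟨a ∘ₗ t, ?_⟩
        have h5 : (a ∘ₗ t) ∘ₗ c x = a := by ext u; simp [ht]
        simp only [χ, AddChar.compAddMonoidHom_apply, AddMonoidHom.comp_apply]
        simp only [AddMonoidHom.coe_mk, ZeroHom.coe_mk]
        rwa [h5]
    exact (mul_eq_zero.1 h4).resolve_left (by exact_mod_cast Fintype.card_ne_zero)
  change ∑ x, φ x = _
  rw [hsplit, hz, add_zero, ← Fintype.sum_of_injective b.par b.par_inj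
    (fun z => (ψ (tr p R U z.1.1) * θ (b.e z.1)) * (ψ (tr p R W z.2.1.1) * θ (b.sw.e z.2.1)))]
  · rw [Fintype.sum_prod_type, mul_assoc, Finset.sum_mul_sum, Finset.mul_sum]
    refine Finset.sum_congr rfl fun a _ => ?_
    rw [Fintype.sum_prod_type, Finset.mul_sum]
    refine Finset.sum_congr rfl fun d _ => ?_
    simp
  · intro x hx
    rw [if_neg fun h => hx (b.par_surj x h)]
  · intro z
    rw [if_pos (b.par_c z)]
    simp only [φ]
    rw [tr_par, AddChar.map_add_eq_mul, par, map_mul, map_mul, b.un_one θ hN hθ]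
    ring

theorem triv [IsSimpleModule R U] [IsSemisimpleModule R W]
    (θ : (End R V)ˣ →* ℂ) {N : ℕ} (hN : ¬ p ∣ N) (hθ : ∀ x, θ x ^ N = 1)
    (h1 : θ.comp b.e = 1) (h2 : θ.comp b.sw.e = 1) : θ = 1 := by
  have hP : ∀ x : (End R V)ˣ, b.pW ∘ₗ x.1 ∘ₗ b.iU = 0 → θ x = 1 := by
    intro x hx
    obtain ⟨z, rfl⟩ := b.par_surj x hx
    have e1 : θ (b.e z.1) = 1 := DFunLike.congr_fun h1 z.1
    have e2 : θ (b.sw.e z.2.1) = 1 := DFunLike.congr_fun h2 z.2.1
    rw [par, map_mul, map_mul, e1, e2, b.un_one θ hN hθ]; simp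
  have hA : ∀ x : (End R V)ˣ, b.pU ∘ₗ x.1 ∘ₗ b.iU ≠ 0 → θ x = 1 := by
    intro x hx
    obtain ⟨a, ha⟩ : IsUnit (b.pU ∘ₗ x.1 ∘ₗ b.iU : End R U) :=
      (Module.End.isUnit_iff _).2 (LinearMap.bijective_of_ne_zero hx)
    have h5 : ∀ u, (a⁻¹).1 (b.pU (x.1 (b.iU u))) = u := fun u => by
      change (a⁻¹).1 ((b.pU ∘ₗ x.1 ∘ₗ b.iU) u) = u
      rw [← ha, ← Module.End.mul_apply, Units.inv_mul]; rfl
    have h6 := hP (b.sw.un (-(b.pW ∘ₗ x.1 ∘ₗ b.iU ∘ₗ (a⁻¹).1)) * x) (by
      ext u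
      have : (b.sw.un (-(b.pW ∘ₗ x.1 ∘ₗ b.iU ∘ₗ (a⁻¹).1))).1 (x.1 (b.iU u)) =
        x.1 (b.iU u) + b.iW (-(b.pW (x.1 (b.iU ((a⁻¹).1 (b.pU (x.1 (b.iU u)))))))) := rfl
      simp only [LinearMap.comp_apply, Units.val_mul, Module.End.mul_apply, this, h5]
      simp)
    rwa [map_mul, b.sw.un_one θ hN hθ, one_mul] at h6
  ext x
  change θ x = 1
  by_cases hc : b.pW ∘ₗ x.1 ∘ₗ b.iU = 0
  · exact hP x hc
  by_cases ha : b.pU ∘ₗ x.1 ∘ₗ b.iU = 0
  · obtain ⟨t, ht⟩ := linv _ hc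
    have := IsSimpleModule.nontrivial R U
    obtain ⟨u, hu⟩ := exists_ne (0 : U)
    have h6 := hA (b.un t * x) (fun h => hu (by
      have h7 := LinearMap.congr_fun h u
      have h8 : b.pU (x.1 (b.iU u)) = 0 := LinearMap.congr_fun ha u
      have h9 : t (b.pW (x.1 (b.iU u))) = u := ht u
      simpa [un_apply, h8, h9] using h7))
    rwa [map_mul, b.un_one θ hN hθ, one_mul] at h6
  · exact hA x ha

end Bi

theorem card_hom : ∃ j : ℕ, Nat.card (W →ₗ[R] U) = p ^ j := by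
  have := fin_hom (R := R) (V := W) (U := U)
  have : Module.Finite (ZMod p) (W →ₗ[R] U) := Module.Finite.of_finite
  exact ⟨_, by rw [Module.natCard_eq_pow_finrank (K := ZMod p), Nat.card_zmod]⟩

theorem int_root {z : ℂ} {n : ℕ} (hn : 0 < n) (h : z ^ n = 1) : IsIntegral ℤ z :=
  IsIntegral.of_pow hn (h ▸ isIntegral_one)

theorem psi_eq (ψ : AddChar (ZMod p) ℂ) (k : ZMod p) : ψ k = ψ 1 ^ k.val := by
  rw [← AddChar.map_nsmul_eq_pow, nsmul_one, ZMod.natCast_zmod_val]

theorem int_psi (ψ : AddChar (ZMod p) ℂ) (k : ZMod p) : IsIntegral ℤ (ψ k) :=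
  int_root (Fact.out : p.Prime).pos (by
    rw [← AddChar.map_nsmul_eq_pow, nsmul_eq_mul, ZMod.natCast_self, zero_mul,
      AddChar.map_zero_eq_one])

theorem ex_tr [IsSimpleModule R U] (ψ : AddChar (ZMod p) ℂ) (hψ : ψ ≠ 1) :
    ∃ a : End R U, ψ (tr p R U a) ≠ 1 := by
  obtain ⟨I, hI, ⟨e⟩⟩ := isSimpleModule_iff_quot_maximal.1 ‹IsSimpleModule R U›
  let _ := Ideal.Quotient.field I
  have : Finite (R ⧸ I) := Finite.of_equiv _ e.toEquiv
  have : Module.Finite (ZMod p) (R ⧸ I) := Module.Finite.of_finite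
  obtain ⟨k, hk⟩ := AddChar.ne_one_iff.1 hψ
  obtain ⟨l, hl⟩ := Algebra.trace_surjective (ZMod p) (R ⧸ I) k
  obtain ⟨r, rfl⟩ := Ideal.Quotient.mk_surjective l
  refine ⟨r • (1 : End R U), ?_⟩
  have h : tr p R U (r • (1 : End R U)) = k := by
    rw [← hl, Algebra.trace_apply]
    change LinearMap.trace (ZMod p) U _ = _
    rw [← LinearMap.trace_conj' _ (e.restrictScalars (ZMod p))]
    congr 1
    refine LinearMap.ext fun x => ?_
    obtain ⟨u, rfl⟩ := e.surjective x
    change e (r • e.symm (e u)) = Ideal.Quotient.mk I r * e u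
    rw [e.symm_apply_apply, map_smul, Algebra.smul_def]
    rfl
  rwa [h]

theorem simple [IsSimpleModule R U] (ψ : AddChar (ZMod p) ℂ) (hψ : ψ ≠ 1)
    (θ : (End R U)ˣ →* ℂ) {N : ℕ} (hN : ¬ p ∣ N) (hθ : ∀ x, θ x ^ N = 1) :
    IsIntegral ℤ (GS p R U ψ θ) ∧ (θ = 1 → GS p R U ψ θ = -1) ∧
      (θ ≠ 1 → ‖GS p R U ψ θ‖ ^ 2 ≤ Nat.card U ∧
        ∃ B, IsIntegral ℤ B ∧ GS p R U ψ θ = (ψ 1 - 1) * B) := by
  classical
  have hN0 : 0 < N := Nat.pos_of_ne_zero (by rintro rfl; exact hN (dvd_zero _))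
  have := fin_hom (R := R) (V := U) (U := U)
  let _ : DivisionRing (End R U) := inferInstance
  let _ : Field (End R U) := littleWedderburn _
  have := Fintype.ofFinite (End R U)ˣ
  have := Fintype.ofFinite (End R U)
  let φ : AddChar (End R U) ℂ := ψ.compAddMonoidHom (tr p R U)
  have hφ : φ ≠ 1 := AddChar.ne_one_iff.2 (ex_tr ψ hψ)
  let χ : MulChar (End R U) ℂ := MulChar.ofUnitHom θ.toHomUnits
  have hχ : ∀ x : (End R U)ˣ, χ x = θ x := fun x => by simp [χ]
  have hsum : ∀ f : End R U → ℂ, f 0 = 0 → ∑ x : (End R U)ˣ, f x = ∑ x, f x := fun f hf =>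
    Fintype.sum_of_injective Units.val Units.val_injective _ _ (fun a ha => by
      by_cases h : a = 0
      · rw [h, hf]
      · exact absurd ⟨Units.mk0 a h, rfl⟩ ha) (fun _ => rfl)
  have hG : GS p R U ψ θ = gaussSum χ φ := by
    rw [GS, finsum_eq_sum_of_fintype, gaussSum, ← hsum _ (by rw [χ.map_nonunit not_isUnit_zero, zero_mul])]
    exact Finset.sum_congr rfl fun x _ => by rw [hχ, mul_comm]; rfl
  refine ⟨?_, ?_, fun h => ?_⟩
  · rw [GS, finsum_eq_sum_of_fintype]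
    exact IsIntegral.sum _ fun x _ => (int_psi ψ _).mul (int_root hN0 (hθ x))
  · rintro rfl
    rw [GS, finsum_eq_sum_of_fintype]
    have h1 := hsum (fun a => if a = 0 then 0 else φ a) (by simp)
    have h2 : ∑ a, φ a = ∑ a, (if a = 0 then 0 else φ a) + ∑ a, (if a = 0 then φ a else 0) := by
      rw [← Finset.sum_add_distrib]
      refine Finset.sum_congr rfl fun x _ => ?_
      split_ifs <;> simp
    rw [AddChar.sum_eq_zero_of_ne_one hφ, ← h1] at h2
    simp only [Units.ne_zero, if_false, Finset.sum_ite_eq', Finset.mem_univ, if_true,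
      AddChar.map_zero_eq_one] at h2
    simp only [MonoidHom.one_apply, mul_one]
    exact eq_neg_of_add_eq_zero_left h2.symm
  · have hχ1 : χ ≠ 1 := fun h' => h (by
      ext x
      rw [← hχ, h']; simp)
    constructor
    · have h1 := gaussSum_mul_gaussSum_eq_card hχ1 (AddChar.IsPrimitive.of_ne_one hφ)
      rw [← star_gaussSum_eq, ← hG] at h1
      have h2 : ‖GS p R U ψ θ‖ ^ 2 = Fintype.card (End R U) := by
        have := congrArg norm h1
        rw [norm_mul, norm_star, Complex.norm_natCast] at this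
        rw [sq, this]
      rw [h2, ← Nat.card_eq_fintype_card]
      have := IsSimpleModule.nontrivial R U
      obtain ⟨u, hu⟩ := exists_ne (0 : U)
      exact_mod_cast Nat.card_le_card_of_injective (fun a : End R U => a u) (fun a c hac => by
        by_contra hne
        apply hu
        apply LinearMap.injective_of_ne_zero (sub_ne_zero.2 hne)
        rw [map_zero, LinearMap.sub_apply, sub_eq_zero]; exact hac)
    · refine ⟨∑ x : (End R U)ˣ, (∑ i ∈ Finset.range (tr p R U x.1).val, ψ 1 ^ i) * θ x, ?_, ?_⟩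
      · exact IsIntegral.sum _ fun x _ =>
          (IsIntegral.sum _ fun i _ => (int_psi ψ _).pow i).mul (int_root hN0 (hθ x))
      · have h0 : ∑ x : (End R U)ˣ, θ x = 0 := by
          rw [← MulChar.sum_eq_zero_of_ne_one hχ1, ← hsum _ (χ.map_nonunit not_isUnit_zero)]
          exact Finset.sum_congr rfl fun x _ => (hχ x).symm
        rw [GS, finsum_eq_sum_of_fintype, Finset.mul_sum, ← sub_zero (∑ _, _), ← h0,
          ← Finset.sum_sub_distrib]
        refine Finset.sum_congr rfl fun x _ => ?_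
        rw [← mul_assoc, mul_geom_sum, ← psi_eq]; ring

theorem main (γ : R) (ψ : AddChar (ZMod p) ℂ) (hψ : ψ ≠ 1) {N : ℕ} (hN : ¬ p ∣ N) (n : ℕ) :
    ∀ (V : Type u) [AddCommGroup V] [Module R V] [Module (ZMod p) V] [IsScalarTower (ZMod p) R V]
      [Finite V] [IsSemisimpleModule R V], Nat.card V = n → ∀ θ : (End R V)ˣ →* ℂ,
      (∀ x, θ x ^ N = 1) → (∀ x : (End R V)ˣ, (∀ v, x.1 (γ • v - v) = γ • v - v) → θ x = 1) →
      ∃ (j : ℕ) (A : ℂ), (GS p R V ψ 1 = (p : ℂ) ^ j ∨ GS p R V ψ 1 = -(p : ℂ) ^ j) ∧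
        GS p R V ψ θ = GS p R V ψ 1 * A ∧ IsIntegral ℤ A ∧
        ‖A‖ ^ 2 * Nat.card {v : V // γ • v = v} ≤ Nat.card V ∧
        (θ ≠ 1 → ∃ B, IsIntegral ℤ B ∧ A = (ψ 1 - 1) * B) := by
  induction n using Nat.strong_induction_on with
  | _ n ih =>
  intro V _ _ _ _ _ _ hn θ hθ h1
  rcases subsingleton_or_nontrivial V with hV | hV
  · have hs : Subsingleton (End R V)ˣ := ⟨fun a c => Units.ext (by ext v; exact Subsingleton.elim _ _)⟩
    have hθ1 : θ = 1 := by ext x; rw [Subsingleton.elim x 1]; simp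
    have hu : Unique (End R V)ˣ := uniqueOfSubsingleton 1
    refine ⟨0, 1, Or.inl ?_, by rw [hθ1, mul_one], isIntegral_one, ?_, fun h => absurd hθ1 h⟩
    · rw [GS, finsum_unique]
      have : ∀ x : End R V, tr p R V x = 0 := fun x => by
        rw [show x = 0 from by ext v; exact Subsingleton.elim _ _, map_zero]
      rw [this]; simp
    · simp only [norm_one, one_pow, one_mul]
      exact_mod_cast Nat.card_le_card_of_injective _ Subtype.val_injective
  obtain ⟨U, hU⟩ := IsSemisimpleModule.exists_simple_submodule R V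
  obtain ⟨W, hUW⟩ := exists_isCompl U
  let b : Bi R V U W := ⟨U.subtype, W.subtype, U.projectionOnto W hUW, W.projectionOnto U hUW.symm,
    Submodule.projectionOnto_apply_left hUW, Submodule.projectionOnto_apply_left hUW.symm,
    Submodule.projectionOnto_apply_right hUW, Submodule.projectionOnto_apply_right hUW.symm,
    Submodule.projection_add_projection_eq_self hUW⟩
  clear_value b
  have hcard : Nat.card V = Nat.card U * Nat.card W := by
    rw [← Nat.card_prod]; exact Nat.card_congr (U.prodEquivOfIsCompl W hUW).symm.toEquiv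
  have := IsSimpleModule.nontrivial R U
  have hlt : Nat.card W < n := by
    rw [← hn, hcard]
    have := Finite.one_lt_card (α := U)
    have := Nat.card_pos (α := W)
    nlinarith
  obtain ⟨j, A, hS, hF, hA, hnA, hB⟩ := ih _ hlt W rfl (θ.comp b.sw.e) (fun x => hθ _)
    (fun x hx => h1 _ fun v => by
      rw [Bi.e'_apply, map_sub b.pW, map_smul, hx, ← map_smul b.pW, ← map_sub b.pW, add_comm, b.tot])
  obtain ⟨i, hi⟩ := card_hom (p := p) (R := R) (U := U) (W := W)
  have s1 := b.step ψ (ex_tr ψ hψ) θ hN hθ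
  have s2 := b.step ψ (ex_tr ψ hψ) 1 hN (by simp)
  rw [MonoidHom.one_comp, MonoidHom.one_comp, (simple (U := U) ψ hψ 1 hN (by simp)).2.1 rfl, hi] at s2
  rw [hi, hF] at s1
  obtain ⟨t1, t2, t3⟩ := simple ψ hψ (θ.comp b.e) hN (fun x => hθ _)
  set G := GS p R U ψ (θ.comp b.e)
  have hfix : Nat.card {v : V // γ • v = v} ≤
      Nat.card {v : U // γ • v = v} * Nat.card {v : W // γ • v = v} := by
    rw [← Nat.card_prod]
    refine Nat.card_le_card_of_injective (fun v => (⟨b.pU v.1, by rw [← map_smul, v.2]⟩,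
      ⟨b.pW v.1, by rw [← map_smul, v.2]⟩)) fun v w h => ?_
    simp only [Prod.mk.injEq, Subtype.mk.injEq] at h
    apply Subtype.ext
    rw [← b.tot v.1, ← b.tot w.1, h.1, h.2]
  have hG : ‖G‖ ^ 2 * Nat.card {v : U // γ • v = v} ≤ Nat.card U := by
    by_cases h : θ.comp b.e = 1
    · rw [t2 h]
      simp only [norm_neg, norm_one, one_pow, one_mul]
      exact_mod_cast Nat.card_le_card_of_injective _ Subtype.val_injective
    · have hne : (γ • (1 : End R U) - 1) ≠ 0 := fun h0 => h (by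
        ext x
        refine h1 _ fun v => ?_
        have h2 : b.pU (γ • v - v) = 0 := by
          rw [map_sub, map_smul]; exact LinearMap.congr_fun h0 (b.pU v)
        have h3 := b.tot (γ • v - v)
        rw [h2, map_zero] at h3
        rw [Bi.e_apply, h2, map_zero, map_zero, h3])
      have hinj := LinearMap.injective_of_ne_zero hne
      have h4 : Nat.card {v : U // γ • v = v} ≤ 1 := by
        have : Subsingleton {v : U // γ • v = v} := ⟨fun v w => Subtype.ext (hinj (by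
          change γ • v.1 - v.1 = γ • w.1 - w.1
          rw [v.2, w.2, sub_self, sub_self]))⟩
        exact Finite.card_le_one_iff_subsingleton.2 this
      calc _ ≤ ‖G‖ ^ 2 * 1 := by gcongr; exact_mod_cast h4
        _ ≤ _ := by rw [mul_one]; exact (t3 h).1
  refine ⟨i + j, -G * A, ?_, ?_, t1.neg.mul hA, ?_, fun h => ?_⟩
  · rw [s2]
    rcases hS with hS | hS <;> rw [hS]
    · right; push_cast; ring
    · left; push_cast; ring
  · rw [s1, s2]; ring
  · rw [hcard, norm_mul, norm_neg]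
    calc _ ≤ (‖G‖ * ‖A‖) ^ 2 * ((Nat.card {v : U // γ • v = v} : ℝ)
          * Nat.card {v : W // γ • v = v}) := by gcongr; exact_mod_cast hfix
      _ = (‖G‖ ^ 2 * Nat.card {v : U // γ • v = v}) * (‖A‖ ^ 2 * Nat.card {v : W // γ • v = v}) := by
          ring
      _ ≤ _ := by push_cast; gcongr
  · by_cases h2 : θ.comp b.e = 1
    · obtain ⟨B, hB1, hB2⟩ := hB fun h3 => h (b.triv θ hN hθ h2 h3)
      exact ⟨-G * B, t1.neg.mul hB1, by rw [hB2]; ring⟩
    · obtain ⟨B, hB1, hB2⟩ := (t3 h2).2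
      exact ⟨-B * A, hB1.neg.mul hA, by rw [hB2]; ring⟩

end CL.KGA.Kd

namespace CL.KGA

open Module Polynomial

universe u

/-- Kondo's recursion for Gauss sums over the centraliser of a `p'`-element. -/
theorem kondo {p : ℕ} [Fact p.Prime] {V : Type u} [AddCommGroup V] [Module (ZMod p) V] [Finite V]
    (g : (Module.End (ZMod p) V)ˣ) (m : ℕ) (hm : ¬ p ∣ m) (hg : g ^ m = 1)
    (θ : Subgroup.centralizer ({g} : Set (Module.End (ZMod p) V)ˣ) →* ℂ) (N : ℕ) (hN : ¬ p ∣ N)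
    (hθ : ∀ x, θ x ^ N = 1)
    (h1 : ∀ x : Subgroup.centralizer ({g} : Set (Module.End (ZMod p) V)ˣ),
      (∀ v, x.1.1 (g.1 v - v) = g.1 v - v) → θ x = 1)
    (ψ : AddChar (ZMod p) ℂ) (hψ : ψ ≠ 1) :
    ∃ (j : ℕ) (A : ℂ),
      ((∑ᶠ x : Subgroup.centralizer ({g} : Set (Module.End (ZMod p) V)ˣ),
          ψ (LinearMap.trace (ZMod p) V x.1.1)) = (p : ℂ) ^ j ∨
        (∑ᶠ x : Subgroup.centralizer ({g} : Set (Module.End (ZMod p) V)ˣ),
          ψ (LinearMap.trace (ZMod p) V x.1.1)) = -(p : ℂ) ^ j) ∧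
      (∑ᶠ x : Subgroup.centralizer ({g} : Set (Module.End (ZMod p) V)ˣ),
          ψ (LinearMap.trace (ZMod p) V x.1.1) * θ x) =
        (∑ᶠ x : Subgroup.centralizer ({g} : Set (Module.End (ZMod p) V)ˣ),
          ψ (LinearMap.trace (ZMod p) V x.1.1)) * A ∧
      IsIntegral ℤ A ∧ ‖A‖ ^ 2 * Nat.card {v : V // g.1 v = v} ≤ Nat.card V ∧
      (θ ≠ 1 → ∃ B, IsIntegral ℤ B ∧ A = (ψ 1 - 1) * B) := by
  have hss : Module.End.IsSemisimple g.1 := by
    refine Module.End.isSemisimple_of_squarefree_aeval_eq_zero (p := X ^ m - 1) ?_ ?_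
    · refine (Polynomial.X_pow_sub_one_separable_iff.2 ?_).squarefree
      rwa [Ne, ZMod.natCast_eq_zero_iff]
    · rw [map_sub, map_pow, aeval_X, map_one, ← Units.val_pow_eq_pow_val, hg, Units.val_one,
        sub_self]
  let M := Module.AEval' g.1
  let e : V ≃ₗ[ZMod p] M := Module.AEval'.of g.1
  have he : ∀ v, (X : (ZMod p)[X]) • e v = e (g.1 v) := fun v => Module.AEval'.X_smul_of g.1 v
  have : Finite M := Finite.of_equiv _ e.toEquiv
  have : IsSemisimpleModule (ZMod p)[X] M := hss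
  let r : End (ZMod p)[X] M →* End (ZMod p) V :=
    { toFun := fun y => e.symm.toLinearMap ∘ₗ y.restrictScalars (ZMod p) ∘ₗ e.toLinearMap
      map_one' := by ext v; simp
      map_mul' := fun a c => by ext v; simp }
  have hr : ∀ y v, r y v = e.symm (y (e v)) := fun _ _ => rfl
  let ρ : (End (ZMod p)[X] M)ˣ →* Subgroup.centralizer ({g} : Set (Module.End (ZMod p) V)ˣ) :=
    (Units.map r).codRestrict _ fun y => by
      rw [Subgroup.mem_centralizer_singleton_iff]
      ext v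
      change r y.1 (g.1 v) = g.1 (r y.1 v)
      rw [hr, hr, ← he, map_smul, LinearEquiv.symm_apply_eq, ← he, e.apply_symm_apply]
  have hρ : ∀ y v, (ρ y).1.1 v = e.symm (y.1 (e v)) := fun _ _ => rfl
  have hlift : ∀ x : Subgroup.centralizer ({g} : Set (Module.End (ZMod p) V)ˣ),
      ∃ y : End (ZMod p)[X] M, ∀ v, y (e v) = e (x.1.1 v) := by
    intro x
    have hx := Subgroup.mem_centralizer_singleton_iff.1 x.2
    refine ⟨LinearMap.ofAEval g.1 (e.toLinearMap ∘ₗ x.1.1) fun v => ?_, fun v => rfl⟩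
    change e (x.1.1 (g.1 v)) = X • e (x.1.1 v)
    rw [he]
    exact congrArg e (LinearMap.congr_fun (congrArg Units.val hx) v)
  have hbij : Function.Bijective ρ := by
    constructor
    · intro a c h
      refine Units.ext (LinearMap.ext fun w => ?_)
      obtain ⟨v, rfl⟩ := e.surjective w
      apply e.symm.injective
      rw [← hρ, ← hρ, h]
    · intro x
      obtain ⟨y, hy⟩ := hlift x
      obtain ⟨z, hz⟩ := hlift x⁻¹
      refine ⟨⟨y, z, LinearMap.ext fun w => ?_, LinearMap.ext fun w => ?_⟩, ?_⟩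
      · obtain ⟨v, rfl⟩ := e.surjective w
        rw [Module.End.mul_apply, hz, hy, ← Module.End.mul_apply, ← Units.val_mul,
          ← Subgroup.coe_mul, mul_inv_cancel]; rfl
      · obtain ⟨v, rfl⟩ := e.surjective w
        rw [Module.End.mul_apply, hy, hz, ← Module.End.mul_apply, ← Units.val_mul,
          ← Subgroup.coe_mul, inv_mul_cancel]; rfl
      · refine Subtype.ext (Units.ext (LinearMap.ext fun v => ?_))
        rw [hρ]
        change e.symm (y (e v)) = _
        rw [hy, e.symm_apply_apply]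
  have htr : ∀ y, LinearMap.trace (ZMod p) V (ρ y).1.1 = Kd.tr p (ZMod p)[X] M y.1 := fun y =>
    LinearMap.trace_conj' (y.1.restrictScalars (ZMod p)) e.symm
  have hGS : ∀ η : Subgroup.centralizer ({g} : Set (Module.End (ZMod p) V)ˣ) →* ℂ,
      (∑ᶠ x : Subgroup.centralizer ({g} : Set (Module.End (ZMod p) V)ˣ),
          ψ (LinearMap.trace (ZMod p) V x.1.1) * η x) = Kd.GS p (ZMod p)[X] M ψ (η.comp ρ) := by
    intro η
    rw [Kd.GS]
    exact (finsum_eq_of_bijective ρ hbij fun y => by rw [htr]; rfl).symm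
  have hS := hGS 1
  simp only [MonoidHom.one_apply, mul_one, MonoidHom.one_comp] at hS
  obtain ⟨j, A, a1, a2, a3, a4, a5⟩ := Kd.main (X : (ZMod p)[X]) ψ hψ hN _ M rfl (θ.comp ρ)
    (fun x => hθ _) (fun y hy => h1 _ fun v => by
      rw [hρ, map_sub, ← he, hy, he, ← map_sub, e.symm_apply_apply])
  refine ⟨j, A, by rwa [hS], by rw [hS, hGS, a2], a3, ?_, fun h => a5 fun h2 => h ?_⟩
  · have c1 : Nat.card V = Nat.card M := Nat.card_congr e.toEquiv
    have c2 : Nat.card {v : V // g.1 v = v} = Nat.card {v : M // (X : (ZMod p)[X]) • v = v} :=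
      Nat.card_congr (e.toEquiv.subtypeEquiv fun v => by
        change _ ↔ (X : (ZMod p)[X]) • e v = e v
        rw [he, e.injective.eq_iff])
    rwa [c1, c2]
  · ext x
    obtain ⟨y, rfl⟩ := hbij.2 x
    exact DFunLike.congr_fun h2 y

end CL.KGA
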