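import Cfsg.Agent.KGV.A.Kon2b
import Mathlib.LinearAlgebra.Trace
import Mathlib.LinearAlgebra.Dual.Lemmas
import Mathlib.LinearAlgebra.Basis.VectorSpace
import Mathlib.Algebra.Field.ZMod
import Mathlib.Algebra.Algebra.Subalgebra.Centralizer
import Mathlib.FieldTheory.Finiteness
import Mathlib.NumberTheory.LegendreSymbol.AddCharacter

/-! Gauss sums over the centraliser of a semisimple element. -/

set_option autoImplicit false
set_option linter.unusedSectionVars false
set_option linter.unusedVariables false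
open Finset
open scoped ComplexConjugate

namespace CL.KGA2

section
variable {k V : Type*} [Field k] [AddCommGroup V] [Module k V] [FiniteDimensional k V]

theorem reg (x : Module.End k V) : ∃ y, x * y * x = x := by
  obtain ⟨s, hs⟩ := x.rangeRestrict.exists_rightInverse_of_surjective x.range_rangeRestrict
  obtain ⟨y, hy⟩ := LinearMap.exists_extend s
  refine ⟨y, LinearMap.ext fun v => ?_⟩
  have h1 := LinearMap.congr_fun hy ⟨x v, v, rfl⟩
  have h2 := congrArg Subtype.val (LinearMap.congr_fun hs ⟨x v, v, rfl⟩)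
  simp only [LinearMap.comp_apply, Submodule.subtype_apply] at h1
  simp only [Module.End.mul_apply, h1]
  exact h2

theorem nondeg {z : Module.End k V} (hz : z ≠ 0) (c : k) :
    ∃ y, LinearMap.trace k V (z * y) = c := by
  obtain ⟨v, hv⟩ : ∃ v, z v ≠ 0 := by
    by_contra h
    exact hz (LinearMap.ext fun v => not_not.1 fun h' => h ⟨v, h'⟩)
  obtain ⟨f, hf⟩ : ∃ f : Module.Dual k V, f (z v) ≠ 0 := by
    by_contra h
    exact hv ((Module.forall_dual_apply_eq_zero_iff k _).1 fun f => not_not.1 fun h' => h ⟨f, h'⟩)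
  refine ⟨(c / f (z v)) • f.smulRight v, ?_⟩
  have : z * f.smulRight v = f.smulRight (z v) := by ext w; simp
  rw [mul_smul_comm, map_smul, this, LinearMap.trace_smulRight, smul_eq_mul, div_mul_cancel₀ _ hf]

theorem avg (g : (Module.End k V)ˣ) {m : ℕ} (hm : (m : k) ≠ 0) (hg : g ^ m = 1)
    (y : Module.End k V) : ∃ y', g.1 * y' = y' * g.1 ∧ ∀ a b : Module.End k V, g.1 * a = a * g.1 →
      g.1 * b = b * g.1 → (g.1 * (a * y * b) = a * y * b * g.1 → a * y' * b = a * y * b) ∧
        LinearMap.trace k V (a * y') = LinearMap.trace k V (a * y) := by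
  let c : ℕ → Module.End k V → Module.End k V := fun i w => (g ^ i).1 * w * (g ^ i)⁻¹.1
  have hc : ∀ i w, g.1 * w = w * g.1 → c i w = w := fun i w h => by
    have : Commute (g ^ i).1 w := by rw [Units.val_pow_eq_pow_val]; exact Commute.pow_left h i
    simp only [c]
    rw [this.eq, mul_assoc, Units.mul_inv, mul_one]
  have hmul : ∀ i v w, c i (v * w) = c i v * c i w := fun i v w => by
    simp only [c, mul_assoc, Units.inv_mul_cancel_left]
  refine ⟨(m : k)⁻¹ • ∑ i ∈ range m, c i y, ?_, fun a b ha hb => ⟨fun h => ?_, ?_⟩⟩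
  · rw [mul_smul_comm, smul_mul_assoc]
    congr 1
    have h1 := (sum_range_succ (fun i => c i y) m).symm.trans (sum_range_succ' _ _)
    have h2 : c m y = c 0 y := by simp only [c, hg, pow_zero]
    rw [h2, add_left_inj] at h1
    conv_rhs => rw [h1]
    rw [mul_sum, sum_mul]
    refine sum_congr rfl fun i _ => ?_
    simp only [c, pow_succ', mul_inv_rev, Units.val_mul, mul_assoc, Units.inv_mul, mul_one]
  · rw [mul_smul_comm, smul_mul_assoc, mul_sum, sum_mul,
      sum_congr rfl (g := fun _ => a * y * b) fun i _ => by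
        rw [← hc i _ h, hmul, hmul, hc i a ha, hc i b hb],
      sum_const, card_range, ← Nat.cast_smul_eq_nsmul k, smul_smul, inv_mul_cancel₀ hm, one_smul]
  · rw [mul_smul_comm, mul_sum, map_smul, map_sum,
      sum_congr rfl (g := fun _ => LinearMap.trace k V (a * y)) fun i _ => by
        conv_lhs => rw [← hc i a ha, ← hmul]
        simp only [c]
        rw [LinearMap.trace_mul_comm, ← mul_assoc, Units.inv_mul, one_mul],
      sum_const, card_range, nsmul_eq_mul, smul_eq_mul, inv_mul_cancel_left₀ hm]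

theorem card_add (P : V → Prop) {e f : Module.End k V} (he : e * e = e) (hf : f * f = f)
    (hef : e * f = 0) (hfe : f * e = 0) (h1 : ∀ v, P v → P (e v)) (h2 : ∀ v, P v → P (f v))
    (h3 : ∀ v w, P v → P w → P (v + w)) :
    Nat.card {v // (e + f) v = v ∧ P v} =
      Nat.card {v // e v = v ∧ P v} * Nat.card {v // f v = v ∧ P v} := by
  have he' : ∀ v, e (e v) = e v := LinearMap.congr_fun he
  have hf' : ∀ v, f (f v) = f v := LinearMap.congr_fun hf
  have a1 : ∀ v, f v = v → e v = 0 := fun v h => h ▸ LinearMap.congr_fun hef v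
  have a2 : ∀ v, e v = v → f v = 0 := fun v h => h ▸ LinearMap.congr_fun hfe v
  rw [← Nat.card_prod]
  exact Nat.card_congr
    { toFun := fun v => (⟨e v.1, he' _, h1 _ v.2.2⟩, ⟨f v.1, hf' _, h2 _ v.2.2⟩)
      invFun := fun w => ⟨w.1.1 + w.2.1, by
        simp [w.1.2.1, w.2.2.1, a1 _ w.2.2.1, a2 _ w.1.2.1], h3 _ _ w.1.2.2 w.2.2.2⟩
      left_inv := fun v => Subtype.ext v.2.1
      right_inv := fun w => by
        ext <;> simp [w.1.2.1, w.2.2.1, a1 _ w.2.2.1, a2 _ w.1.2.1] }

end

theorem kondo {p : ℕ} [hp : Fact p.Prime] {V : Type*} [AddCommGroup V] [Module (ZMod p) V] [Finite V]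
    (g : (Module.End (ZMod p) V)ˣ) (m : ℕ) (hm : ¬ p ∣ m) (hg : g ^ m = 1)
    (θ : Subgroup.centralizer {g} →* ℂ) (N : ℕ) (hN : ¬ p ∣ N) (hθ : ∀ x, θ x ^ N = 1)
    (h1 : ∀ x : Subgroup.centralizer {g}, (∀ v, x.1.1 (g.1 v - v) = g.1 v - v) → θ x = 1)
    (ψ : AddChar (ZMod p) ℂ) (hψ : ψ ≠ 1) :
    ∃ (j : ℕ) (A : ℂ),
      (∑ᶠ x : Subgroup.centralizer {g}, ψ (LinearMap.trace (ZMod p) V x.1.1) = (p : ℂ) ^ j ∨
        ∑ᶠ x : Subgroup.centralizer {g}, ψ (LinearMap.trace (ZMod p) V x.1.1) = -(p : ℂ) ^ j) ∧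
      ∑ᶠ x : Subgroup.centralizer {g}, ψ (LinearMap.trace (ZMod p) V x.1.1) * θ x =
        (∑ᶠ x : Subgroup.centralizer {g}, ψ (LinearMap.trace (ZMod p) V x.1.1)) * A ∧
      IsIntegral ℤ A ∧ ‖A‖ ^ 2 * Nat.card {v // g.1 v = v} ≤ Nat.card V ∧
      (θ ≠ 1 → ∃ B, IsIntegral ℤ B ∧ A = (ψ 1 - 1) * B) := by
  classical
  have : Finite (Module.End (ZMod p) V) := Finite.of_injective _ DFunLike.coe_injective
  let C := Subalgebra.centralizer (ZMod p) {g.1}
  have := Fintype.ofFinite C
  have := Fintype.ofFinite (Subgroup.centralizer {g})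
  have memC : ∀ x, x ∈ C ↔ g.1 * x = x * g.1 := fun x => by simp [C, Subalgebra.mem_centralizer_iff]
  have memG : ∀ x, x ∈ Subgroup.centralizer {g} ↔ g.1 * x.1 = x.1 * g.1 := fun x => by
    rw [Subgroup.mem_centralizer_singleton_iff, eq_comm, Units.ext_iff, Units.val_mul,
      Units.val_mul]
  have hm' : (m : ZMod p) ≠ 0 := fun h => hm ((ZMod.natCast_eq_zero_iff _ _).1 h)
  let ι : Cˣ →* Subgroup.centralizer {g} :=
    (Units.map C.val.toRingHom.toMonoidHom).codRestrict _ fun u => (memG _).2 ((memC _).1 u.1.2)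
  have hι : Function.Bijective ι := ⟨fun u v h => Units.ext (Subtype.ext
    (congrArg (fun x => x.1.1) h)), fun x => ⟨⟨⟨x.1.1, (memC _).2 ((memG _).1 x.2)⟩,
      ⟨x⁻¹.1.1, (memC _).2 ((memG _).1 x⁻¹.2)⟩, Subtype.ext x.1.mul_inv, Subtype.ext x.1.inv_mul⟩,
      rfl⟩⟩
  let θ' : C → ℂ := fun x => if h : IsUnit x then θ (ι h.unit) else 0
  have hθ' : ∀ u : Cˣ, θ' u = θ (ι u) := fun u => by simp [θ']
  let φ : AddChar C ℂ := ψ.compAddMonoidHom
    ((LinearMap.trace (ZMod p) V).toAddMonoidHom.comp C.val.toRingHom.toAddMonoidHom)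
  have hφ : ∀ x : C, φ x = ψ (LinearMap.trace (ZMod p) V x.1) := fun _ => rfl
  have N0 : N ≠ 0 := fun h => hN (h ▸ dvd_zero p)
  have hsum : ∀ F : C → ℂ, ∑ x : Subgroup.centralizer {g},
      F ⟨x.1.1, (memC _).2 ((memG _).1 x.2)⟩ = ∑ x ∈ X (1 : C), F x := fun F => by
    refine sum_bij (fun x _ => ⟨x.1.1, (memC _).2 ((memG _).1 x.2)⟩) ?_ ?_ ?_ fun _ _ => rfl
    · intro x _
      obtain ⟨u, rfl⟩ := hι.2 x
      exact mem_X.2 ⟨one_mul _, mul_one _, by rw [sub_self, add_zero]; exact u.isUnit⟩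
    · exact fun x _ y _ h => Subtype.ext (Units.ext (congrArg Subtype.val h))
    · intro x hx
      have := (mem_X.1 hx).2.2
      rw [sub_self, add_zero] at this
      obtain ⟨u, rfl⟩ := this
      exact ⟨ι u, mem_univ _, rfl⟩
  have hψp : ∀ a, ψ a ^ p = 1 := fun a => by
    rw [← AddChar.map_nsmul_eq_pow, nsmul_eq_mul, ZMod.natCast_self, zero_mul,
      AddChar.map_zero_eq_one]
  have hψi : ∀ a, IsIntegral ℤ (ψ a) := fun a =>
    IsIntegral.of_pow hp.out.pos (by rw [hψp]; exact isIntegral_one)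
  obtain ⟨j, A, a1, a2, a3, a4, a5⟩ := main (φ := φ) (θ := θ') (π := ψ 1 - 1) (p := p)
    (fun x y => by rw [hφ, hφ]; exact congrArg ψ (LinearMap.trace_mul_comm _ x.1 y.1))
    (fun z hz => by
      obtain ⟨c, hc⟩ := AddChar.ne_one_iff.1 hψ
      obtain ⟨y, hy⟩ := nondeg (z := z.1) (fun h => hz (Subtype.ext h)) c
      obtain ⟨y', b1, b2⟩ := avg g hm' hg y
      refine ⟨⟨y', (memC _).2 b1⟩, ?_⟩
      rw [hφ]
      have := (b2 z.1 1 ((memC _).1 z.2) (by simp)).2
      rw [hy] at this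
      exact fun h => hc (this ▸ h))
    (fun x => by
      rw [hφ, AddChar.map_neg_eq_inv, hφ, Complex.inv_eq_conj
        (Complex.norm_eq_one_of_pow_eq_one (hψp _) hp.out.ne_zero)])
    (fun x y ⟨u, hu⟩ ⟨v, hv⟩ => by rw [← hu, ← hv, ← Units.val_mul, hθ', hθ', hθ', map_mul, map_mul])
    (fun x ⟨u, hu⟩ => by
      rw [← hu, hθ', Complex.mul_conj, Complex.normSq_eq_norm_sq,
        Complex.norm_eq_one_of_pow_eq_one (hθ _) N0]; simp)
    (fun t ht => by
      obtain ⟨u, hu⟩ := unit_of_sq ht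
      have h2 : ∀ n : ℕ, (1 + t) ^ n = 1 + n • t := fun n => by
        induction n with
        | zero => simp
        | succ n ih => rw [pow_succ, ih, add_mul, mul_add, mul_add, smul_mul_assoc n t t, ht]
                       simp [add_smul]; abel
      have h3 : u ^ p = 1 := Units.ext (by
        rw [Units.val_pow_eq_pow_val, hu, h2, ← Nat.cast_smul_eq_nsmul (ZMod p)]; simp)
      rw [← hu, hθ']
      have h4 : θ (ι u) ^ p = 1 := by rw [← map_pow, ← map_pow, h3, map_one, map_one]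
      exact (pow_eq_one_iff_of_coprime ((Nat.Prime.coprime_iff_not_dvd hp.out).2 hN)).1
        ⟨h4, hθ _⟩)
    (fun x => by
      obtain ⟨y, hy⟩ := reg x.1
      obtain ⟨y', b1, b2⟩ := avg g hm' hg y
      have hx := (memC _).1 x.2
      exact ⟨⟨y', (memC _).2 b1⟩, Subtype.ext (((b2 x.1 x.1 hx hx).1 (by rwa [hy])).trans hy)⟩)
    (fun x ⟨u, hu⟩ => by
      rw [← hu, hθ']
      exact IsIntegral.of_pow (Nat.pos_of_ne_zero N0) (by rw [hθ]; exact isIntegral_one))
    (fun x => ⟨hψi _, ∑ i ∈ range (LinearMap.trace (ZMod p) V x.1).val, ψ 1 ^ i,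
      IsIntegral.sum _ fun i _ => (hψi 1).pow i, by
        rw [mul_geom_sum, add_sub_cancel, ← AddChar.map_nsmul_eq_pow, nsmul_eq_mul, mul_one,
          ZMod.natCast_zmod_val, hφ]⟩)
    (fun e f => by
      let W : Submodule (ZMod p) C :=
        { carrier := {t | e * t = t ∧ t * f = t}
          add_mem' := fun a b => ⟨by rw [mul_add, a.1, b.1], by rw [add_mul, a.2, b.2]⟩
          zero_mem' := ⟨mul_zero _, zero_mul _⟩
          smul_mem' := fun c x a => ⟨by rw [mul_smul_comm, a.1], by rw [smul_mul_assoc, a.2]⟩ }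
      refine ⟨Module.finrank (ZMod p) W, ?_⟩
      have := Module.natCard_eq_pow_finrank (K := ZMod p) (V := W)
      rw [Nat.card_zmod] at this
      rw [← Nat.card_eq_finsetCard, ← this]
      exact Nat.card_congr (Equiv.subtypeEquivRight fun _ => mem_T))
    hp.out.ne_zero (fun e => Nat.card {v // e.1 v = v ∧ True})
    (fun e => Nat.card {v // e.1 v = v ∧ g.1 v = v})
    (fun e f he hf hef hfe => by
      have k : ∀ e : C, ∀ v, g.1 v = v → g.1 (e.1 v) = e.1 v := fun e v hv => by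
        have := LinearMap.congr_fun ((memC _).1 e.2) v
        rwa [Module.End.mul_apply, Module.End.mul_apply, hv] at this
      exact ⟨card_add _ (congrArg Subtype.val he) (congrArg Subtype.val hf)
        (congrArg Subtype.val hef) (congrArg Subtype.val hfe) (by simp) (by simp) (by simp),
        card_add _ (congrArg Subtype.val he) (congrArg Subtype.val hf)
        (congrArg Subtype.val hef) (congrArg Subtype.val hfe) (k e) (k f)
        fun v w a b => by rw [map_add, a, b]⟩)
    (fun e => Nat.card_le_card_of_injective (fun v => ⟨v.1, v.2.1, trivial⟩)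
      fun v w h => Subtype.ext (Subtype.mk.inj h))
    (fun e he e0 hpr ⟨x, hx, hx1⟩ => by
      have inj : ∀ a : C, e * a = a → a * e = a → ∀ v, e.1 v = v → a.1 v = 0 → a = 0 ∨ v = 0 :=
        fun a a1 a2 v hv h0 => by
          by_cases h : a = 0
          · exact Or.inl h
          obtain ⟨w, hw⟩ := (hpr a a1 a2 h).exists_left_inv
          have := LinearMap.congr_fun (congrArg Subtype.val hw) v
          simp [h0, hv] at this
          exact Or.inr this.symm
      let g' : C := ⟨g.1, (memC _).2 rfl⟩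
      have hge : g' * e = e * g' := Subtype.ext ((memC _).1 e.2)
      have hr : Nat.card {v // e.1 v = v ∧ g.1 v = v} = 1 := by
        refine Nat.card_eq_one_iff_exists.2 ⟨⟨0, by simp⟩, fun v => Subtype.ext ?_⟩
        refine (inj ((g' - 1) * e) (by rw [← mul_assoc, mul_sub, ← hge, mul_one, sub_mul, sub_mul,
          mul_assoc, he, one_mul]) (by rw [mul_assoc, he]) v v.2.1
          (by simp [g', v.2.1, v.2.2])).resolve_left fun h => hx1 ?_
        obtain ⟨b1, b2, u, hu⟩ := mem_X.1 hx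
        rw [← hu, hθ']
        refine h1 _ fun w => ?_
        have h5 : e * (g' - 1) = 0 := by rw [← h, mul_sub, sub_mul, hge, mul_one, one_mul]
        have : u.1 * (g' - 1) = g' - 1 := by
          rw [hu, add_mul, ← b2, mul_assoc, h5, mul_zero, zero_add, sub_mul, h5, sub_zero, one_mul]
        exact LinearMap.congr_fun (congrArg Subtype.val this) w
      obtain ⟨v, hv⟩ : ∃ v, e.1 v ≠ 0 := by
        by_contra h
        exact e0 (Subtype.ext (LinearMap.ext fun v => not_not.1 fun h' => h ⟨v, h'⟩))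
      have he' : e.1 (e.1 v) = e.1 v := LinearMap.congr_fun (congrArg Subtype.val he) v
      simp only [hr, mul_one]
      rw [← Nat.card_eq_finsetCard]
      refine Nat.card_le_card_of_injective (fun t => ⟨t.1.1 (e.1 v),
        LinearMap.congr_fun (congrArg Subtype.val (mem_T.1 t.2).1) _, trivial⟩) fun a b h => ?_
      have h' : a.1.1 (e.1 v) = b.1.1 (e.1 v) := congrArg Subtype.val h
      refine Subtype.ext (sub_eq_zero.1 ((inj _ ?_ ?_ _ he' ?_).resolve_right hv))
      · rw [mul_sub, (mem_T.1 a.2).1, (mem_T.1 b.2).1]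
      · rw [sub_mul, (mem_T.1 a.2).2, (mem_T.1 b.2).2]
      · simp [h'])
    _ 1 (one_mul _) rfl
  have e1 : ∑ᶠ x : Subgroup.centralizer {g}, ψ (LinearMap.trace (ZMod p) V x.1.1) =
      Fe φ (fun _ => 1) 1 := by
    rw [finsum_eq_sum_of_fintype, Fe, ← hsum]
    exact sum_congr rfl fun x _ => (mul_one _).symm
  have e2 : ∑ᶠ x : Subgroup.centralizer {g}, ψ (LinearMap.trace (ZMod p) V x.1.1) * θ x =
      Fe φ θ' 1 := by
    rw [finsum_eq_sum_of_fintype, Fe, ← hsum]
    refine sum_congr rfl fun x _ => ?_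
    obtain ⟨u, rfl⟩ := hι.2 x
    rw [sub_self, add_zero, ← hθ']
    rfl
  rw [e1, e2]
  refine ⟨j, A, a1, a2, a3, by simpa using a4, fun h => a5 ?_⟩
  by_contra h'
  refine h (MonoidHom.ext fun x => ?_)
  obtain ⟨u, rfl⟩ := hι.2 x
  by_contra h2
  refine h' ⟨u, mem_X.2 ⟨one_mul _, mul_one _, by rw [sub_self, add_zero]; exact u.isUnit⟩, ?_⟩
  rwa [sub_self, add_zero, hθ']

end CL.KGA2
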