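import Cfsg.Agent.KGV.I.Idem
import Mathlib.LinearAlgebra.Matrix.Charpoly.Coeff
import Mathlib.Algebra.CharP.Lemmas
import Mathlib.FieldTheory.Perfect
import Mathlib.LinearAlgebra.Matrix.CharP

/-! The pairing of commuting matrices and the re-indexing of the centralizer. -/

set_option autoImplicit false
set_option linter.unusedSectionVars false

namespace CL.KGV.Mid
open CL.KGV.Idem

variable {K n : Type*} [Field K] [Fintype K] [Fintype n] [DecidableEq n]

/-- rank of a matrix -/
noncomputable def mr (E : Matrix n n K) : ℕ := rk (Matrix.toLin' E)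

theorem mr_le (φ : K →+* K) (E : Matrix n n K) : mr E ≤ mr (E.map φ) := by
  have h : Nat.card (LinearMap.range (Matrix.toLin' E)) ≤
      Nat.card (LinearMap.range (Matrix.toLin' (E.map φ))) := by
    refine Nat.card_le_card_of_injective (fun v => ⟨φ ∘ v.1, ?_⟩) fun v w h => ?_
    · obtain ⟨_, w, rfl⟩ := v
      refine ⟨φ ∘ w, ?_⟩
      funext i
      simp [Matrix.toLin'_apply, RingHom.map_mulVec]
    · refine Subtype.ext (funext fun i => φ.injective ?_)
      exact congrFun (congrArg Subtype.val h) i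
  rw [Module.natCard_eq_pow_finrank (K := K) (V := LinearMap.range (Matrix.toLin' E)),
    Module.natCard_eq_pow_finrank (K := K) (V := LinearMap.range (Matrix.toLin' (E.map φ)))] at h
  exact (Nat.pow_le_pow_iff_right Finite.one_lt_card).1 h

theorem mr_map (φ : K ≃+* K) (E : Matrix n n K) : mr (E.map φ) = mr E := by
  refine le_antisymm ?_ (mr_le (φ : K →+* K) E)
  have h := mr_le (φ.symm : K →+* K) (E.map φ)
  rwa [show (E.map φ).map (φ.symm : K →+* K) = E by ext i j; simp] at h

theorem mr_zero : mr (0 : Matrix n n K) = 0 := by simp [mr, rk]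

/-- functional calculus of a complete family of orthogonal idempotents -/
noncomputable def Ev {ι : Type*} [Fintype ι] {e : ι → Matrix n n K}
    (he : CompleteOrthogonalIdempotents e) : (ι → K) →ₐ[K] Matrix n n K where
  toFun F := ∑ i, F i • e i
  map_one' := by simp [he.complete]
  map_mul' F G := by
    classical
    rw [Finset.sum_mul_sum]
    refine Finset.sum_congr rfl fun i _ => ?_
    rw [Finset.sum_eq_single i]
    · rw [smul_mul_smul_comm, (he.idem i).eq]; rfl
    · intro j _ hj
      rw [smul_mul_smul_comm, he.ortho hj.symm, smul_zero]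
    · simp
  map_zero' := by simp
  map_add' F G := by simp [add_smul, Finset.sum_add_distrib]
  commutes' c := by
    simp [← Finset.smul_sum, he.complete, Algebra.algebraMap_eq_smul_one]

section
variable {ι : Type*} [Fintype ι] {e : ι → Matrix n n K} (he : CompleteOrthogonalIdempotents e)

theorem Ev_apply (F : ι → K) : Ev he F = ∑ i, F i • e i := rfl

theorem det_Ev (F : ι → K) : (Ev he F).det = ∏ i, F i ^ mr (e i) := by
  have h := det_sum_top (fun i => Matrix.toLin' (e i))
    (he.map (Matrix.toLinAlgEquiv' : Matrix n n K ≃ₐ[K] _).toRingEquiv.toRingHom) F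
  rw [← LinearMap.det_toLin', Ev_apply, map_sum]
  simpa [mr] using h

theorem trace_Ev (F : ι → K) : (Ev he F).trace = ∑ i, (mr (e i) : K) * F i := by
  have h := trace_sum (fun i => Matrix.toLin' (e i))
    (he.map (Matrix.toLinAlgEquiv' : Matrix n n K ≃ₐ[K] _).toRingEquiv.toRingHom).idem F Finset.univ
  rw [← Matrix.trace_toLin'_eq, Ev_apply, map_sum]
  simpa [mr, mul_comm] using h

theorem ep_Ev [DecidableEq K] (F : ι → K) (a : K) :
    ep (Ev he F) a = Ev he fun i => if F i = a then 1 else 0 := by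
  have hc : Fintype.card K - 1 ≠ 0 := by
    have := Fintype.one_lt_card (α := K); omega
  rw [ep, ← (Ev he).commutes, ← map_sub, ← map_pow, ← map_one (Ev he), ← map_sub]
  congr 1
  funext i
  by_cases h : F i = a
  · simp [h, hc]
  · simp [h, FiniteField.pow_card_sub_one_eq_one _ (sub_ne_zero.2 h)]

theorem Ev_congr {F G : ι → K} (h : ∀ i, e i ≠ 0 → F i = G i) : Ev he F = Ev he G :=
  Finset.sum_congr rfl fun i _ => by
    by_cases h0 : e i = 0
    · simp [h0]
    · rw [h i h0]

theorem commute_Ev {u : Matrix n n K} (h : ∀ i, Commute u (e i)) (F : ι → K) :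
    Commute u (Ev he F) :=
  Commute.sum_right _ _ _ fun i _ => (h i).smul_right _

end

/-- the pairing -/
noncomputable def Lam (l : K → ℕ) (y g : Matrix n n K) : K :=
  ∏ b, (ep y b * g + (1 - ep y b)).det ^ l b

theorem Lam_one (l : K → ℕ) (y : Matrix n n K) : Lam l y 1 = 1 := by simp [Lam]

theorem Lam_mul (l : K → ℕ) {y g h : Matrix n n K} (hy : y ^ Fintype.card K = y)
    (hg : Commute g y) : Lam l y (g * h) = Lam l y g * Lam l y h := by
  rw [Lam, Lam, Lam, ← Finset.prod_mul_distrib]
  refine Finset.prod_congr rfl fun b _ => ?_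
  rw [← mul_pow, ← Matrix.det_mul]
  congr 2
  have h1 := ((coi hy).idem b).eq
  have h2 := (commute_ep hg b).eq
  set P := ep y b
  have h3 : P * g * P = P * g := by rw [mul_assoc, h2, ← mul_assoc, h1]
  simp only [add_mul, mul_add, sub_mul, mul_sub, one_mul, mul_one, ← mul_assoc, h1, h3]
  abel

theorem Lam_pow (l : K → ℕ) {y g : Matrix n n K} (hy : y ^ Fintype.card K = y)
    (hg : Commute g y) (k : ℕ) : Lam l y (g ^ k) = Lam l y g ^ k := by
  induction k with
  | zero => simp [Lam_one]
  | succ k ih => rw [pow_succ', Lam_mul l hy hg, ih, pow_succ']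

theorem Lam_conj (l : K → ℕ) (y g : Matrix n n K) {c d : Matrix n n K} (hcd : c * d = 1)
    (hdc : d * c = 1) : Lam l (c * y * d) (c * g * d) = Lam l y g := by
  refine Finset.prod_congr rfl fun b _ => ?_
  have hp : ∀ (z : Matrix n n K) (k : ℕ), (c * z * d) ^ k = c * z ^ k * d := fun z k => by
    induction k with
    | zero => simp [hcd]
    | succ k ih =>
      rw [pow_succ, ih, pow_succ]
      simp only [mul_assoc]
      rw [← mul_assoc d c, hdc, one_mul]
  have h1 : ep (c * y * d) b = c * ep y b * d := by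
    rw [ep, ep, mul_sub, sub_mul, mul_one, hcd, ← hp, mul_sub, sub_mul,
      ← Algebra.commutes, mul_assoc _ c d, hcd, mul_one]
  have h2 : ep (c * y * d) b * (c * g * d) + (1 - ep (c * y * d) b) =
      c * (ep y b * g + (1 - ep y b)) * d := by
    rw [h1, mul_add, add_mul, mul_sub, sub_mul, mul_one, hcd]
    simp only [mul_assoc]
    rw [← mul_assoc d c, hdc, one_mul]
  rw [h2, Matrix.det_mul, Matrix.det_mul, mul_right_comm, ← Matrix.det_mul, hcd, Matrix.det_one,
    one_mul]

theorem Lam_Ev [DecidableEq K] (l : K → ℕ) {ι : Type*} [Fintype ι] {e : ι → Matrix n n K}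
    (he : CompleteOrthogonalIdempotents e) (Y G : ι → K) :
    Lam l (Ev he Y) (Ev he G) = ∏ i, G i ^ (l (Y i) * mr (e i)) := by
  have h : ∀ b, (ep (Ev he Y) b * Ev he G + (1 - ep (Ev he Y) b)).det ^ l b =
      ∏ i, if Y i = b then G i ^ (l (Y i) * mr (e i)) else 1 := fun b => by
    rw [ep_Ev, ← map_mul, ← map_one (Ev he), ← map_sub, ← map_add, det_Ev, ← Finset.prod_pow]
    refine Finset.prod_congr rfl fun i _ => ?_
    by_cases hb : Y i = b
    · simp [hb, ← pow_mul, mul_comm]
    · simp [hb]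
  rw [Lam]
  simp only [h]
  rw [Finset.prod_comm]
  simp

theorem Ev_fst {g s : Matrix n n K} (hg : g ^ Fintype.card K = g) (hs : s ^ Fintype.card K = s)
    (h : Commute g s) : Ev (coi2 hg hs h) Prod.fst = g := by
  rw [Ev_apply, Fintype.sum_prod_type]
  simp only [← smul_mul_assoc, ← Finset.mul_sum, (coi hs).complete, mul_one, sum_ep hg]

theorem Ev_snd {g s : Matrix n n K} (hg : g ^ Fintype.card K = g) (hs : s ^ Fintype.card K = s)
    (h : Commute g s) : Ev (coi2 hg hs h) Prod.snd = s := by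
  rw [Ev_apply, Fintype.sum_prod_type_right]
  simp only [← mul_smul_comm, ← Finset.sum_mul, (coi hg).complete, one_mul, sum_ep hs]

theorem ep_zero {s : Matrix n n K} (hs : s ^ (Fintype.card K - 1) = 1) : ep s (0 : K) = 0 := by
  simp [ep, hs]

theorem trace_unip {p : ℕ} [Fact p.Prime] [CharP K p] {u z : Matrix n n K} {k : ℕ}
    (hu : u ^ p ^ k = 1) (h : Commute u z) : (u * z).trace = z.trace := by
  rcases isEmpty_or_nonempty n with hn | hn
  · simp [Matrix.trace]
  have h1 : IsNilpotent (u - 1) :=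
    ⟨p ^ k, by rw [sub_pow_char_pow_of_commute _ _ (Commute.one_right u), hu, one_pow, sub_self]⟩
  have h2 := (Matrix.isNilpotent_trace_of_isNilpotent
    ((h.sub_left (Commute.one_left z)).isNilpotent_mul_right h1)).eq_zero
  rwa [sub_mul, one_mul, Matrix.trace_sub, sub_eq_zero] at h2

theorem map_ep_frob {p : ℕ} [Fact p.Prime] [CharP K p] {z : Matrix n n K}
    (hz : z.map (frobenius K p) = z) (a : K) : (ep z a).map (frobenius K p) = ep z (a ^ p) := by
  have h := map_ep (F := K) (frobenius K p).mapMatrix (fun a => a ^ p) (fun a => by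
    rw [RingHom.mapMatrix_apply, Matrix.algebraMap_eq_diagonal, Matrix.algebraMap_eq_diagonal,
      Matrix.diagonal_map (map_zero _)]
    rfl) z a
  simpa [RingHom.mapMatrix_apply, hz] using h

theorem key {p : ℕ} [Fact p.Prime] [CharP K p] (l : K → ℕ) (ρ : K → K → K)
    (h1 : ∀ a b, ρ (a ^ p) (b ^ p) = ρ a b ^ p) (h2 : ∀ a, Function.Injective (ρ a))
    (h3 : ∀ a b, ∃ i, ρ a b = b ^ p ^ i)
    (h4 : ∀ m : K → K → ℕ, (∀ a b, m (a ^ p) (b ^ p) = m a b) → (∀ b, m 0 b = 0) →
      (∀ a, m a 0 = 0) → ∏ a, ∏ b, a ^ (l b * m a b) = ∏ a, ∏ b, ρ a b ^ (l a * m a b))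
    (h5 : ∀ m : K → K → ℕ, (∀ a b, m (a ^ p) (b ^ p) = m a b) → (∀ b, m 0 b = 0) →
      (∀ a, m a 0 = 0) → ∑ a, ∑ b, (m a b : K) * ρ a b = ∑ a, ∑ b, (m a b : K) * b)
    {g s : Matrix n n K} (hg : g ^ (Fintype.card K - 1) = 1) (hs : s ^ (Fintype.card K - 1) = 1)
    (hc : Commute g s) (fg : g.map (frobenius K p) = g) (fs : s.map (frobenius K p) = s) :
    ∃ R : Matrix n n K, R.map (frobenius K p) = R ∧ R ^ (Fintype.card K - 1) = 1 ∧
      (∀ u, Commute u g → Commute u s → Commute u R) ∧ Lam l s g = Lam l g R ∧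
      R.trace = s.trace ∧
      s = ∑ a, ∑ c, Function.invFun (ρ a) c • (ep g a * ep R c) := by
  classical
  have hQ : Fintype.card K = Fintype.card K - 1 + 1 := by
    have := Fintype.one_lt_card (α := K); omega
  have hg' : g ^ Fintype.card K = g := by rw [hQ, pow_succ, hg, one_mul]
  have hs' : s ^ Fintype.card K = s := by rw [hQ, pow_succ, hs, one_mul]
  have he := coi2 hg' hs' hc
  have fe : ∀ a b : K, (ep g a * ep s b).map (frobenius K p) = ep g (a ^ p) * ep s (b ^ p) :=
    fun a b => by rw [Matrix.map_mul, map_ep_frob fg, map_ep_frob fs]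
  have m1 : ∀ a b : K, mr (ep g (a ^ p) * ep s (b ^ p)) = mr (ep g a * ep s b) := fun a b => by
    rw [← fe]; exact mr_map (frobeniusEquiv K p) _
  have m2 : ∀ b : K, mr (ep g (0 : K) * ep s b) = 0 := fun b => by
    rw [ep_zero hg, zero_mul, mr_zero]
  have m3 : ∀ a : K, mr (ep g a * ep s (0 : K)) = 0 := fun a => by
    rw [ep_zero hs, mul_zero, mr_zero]
  have eg : Ev he Prod.fst = g := Ev_fst hg' hs' hc
  have es : Ev he Prod.snd = s := Ev_snd hg' hs' hc
  refine ⟨Ev he fun i => ρ i.1 i.2, ?_, ?_, fun u hu hu' => ?_, ?_, ?_, ?_⟩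
  · rw [Ev_apply]
    have := map_sum (frobenius K p).mapMatrix
      (fun i : K × K => ρ i.1 i.2 • (ep g i.1 * ep s i.2)) Finset.univ
    rw [RingHom.mapMatrix_apply] at this
    rw [this, ← Equiv.sum_comp
      ((frobeniusEquiv K p).toEquiv.prodCongr (frobeniusEquiv K p).toEquiv)
      (fun i : K × K => ρ i.1 i.2 • (ep g i.1 * ep s i.2))]
    refine Finset.sum_congr rfl fun i _ => ?_
    rw [RingHom.mapMatrix_apply]
    show _ = ρ (i.1 ^ p) (i.2 ^ p) • (ep g (i.1 ^ p) * ep s (i.2 ^ p))
    rw [← fe, h1]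
    generalize ep g i.1 * ep s i.2 = M
    ext x y
    simp [frobenius_def, mul_pow]
  · rw [← map_pow, ← map_one (Ev he)]
    refine Ev_congr he fun i hi => ?_
    have hb : i.2 ≠ 0 := fun hb => hi (by simp only [hb, ep_zero hs, mul_zero])
    obtain ⟨k, hk⟩ := h3 i.1 i.2
    simp only [Pi.pow_apply, Pi.one_apply, hk]
    exact FiniteField.pow_card_sub_one_eq_one _ (pow_ne_zero _ hb)
  · exact commute_Ev he (fun i => (commute_ep hu _).mul_right (commute_ep hu' _)) _
  · have e1 := Lam_Ev l he Prod.snd Prod.fst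
    have e2 := Lam_Ev l he Prod.fst fun i => ρ i.1 i.2
    rw [eg, es] at e1
    rw [eg] at e2
    rw [e1, e2, Fintype.prod_prod_type, Fintype.prod_prod_type]
    exact h4 (fun a b => mr (ep g a * ep s b)) m1 m2 m3
  · have e1 := trace_Ev he Prod.snd
    rw [es] at e1
    rw [e1, trace_Ev, Fintype.sum_prod_type, Fintype.sum_prod_type]
    exact h5 (fun a b => mr (ep g a * ep s b)) m1 m2 m3
  · have e1 : ∀ a : K, ep g a = Ev he fun i => if i.1 = a then 1 else 0 := fun a => by
      rw [← ep_Ev, eg]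
    have e2 : ∀ a c : K, Function.invFun (ρ a) c • (ep g a * ep (Ev he fun i => ρ i.1 i.2) c) =
        Ev he (Function.invFun (ρ a) c • ((fun i => if i.1 = a then 1 else 0) *
          fun i => if ρ i.1 i.2 = c then 1 else 0)) := fun a c => by
      rw [map_smul, map_mul, ← e1, ← ep_Ev]
    simp only [e2, ← map_sum]
    refine es.symm.trans (congrArg _ (funext fun i => ?_))
    simp [Finset.sum_apply, Function.leftInverse_invFun (h2 _) _]

end CL.KGV.Mid
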