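import Cfsg.Agent.KGV.A.Mid
import Cfsg.Agent.KGV.Big
import Cfsg.Agent.KGV.NT
import Cfsg.Agent.KGV.Tr
import Cfsg.Agent.KGV.Pair

/-! The matrix form of the twisting data. -/

set_option autoImplicit false
set_option linter.unusedSectionVars false

namespace CL.KGV.Mid
open CL.KGV.Idem Polynomial

theorem iota' (K : Type*) [Field K] [Finite K] : ∃ ι : K →* ℂ, ∀ c, ι c = 1 → c = 1 := by
  obtain ⟨ι, hι⟩ := Big.iota K
  refine ⟨(MulChar.ofUnitHom ι : MulChar K ℂ).toMonoidHom, fun c hc => ?_⟩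
  change (MulChar.ofUnitHom ι : MulChar K ℂ) c = 1 at hc
  by_cases h0 : c = 0
  · rw [h0, MulChar.map_zero] at hc
    exact absurd hc zero_ne_one
  · have h1 : (MulChar.ofUnitHom ι : MulChar K ℂ) (Units.mk0 c h0) = ι (Units.mk0 c h0) :=
      MulChar.ofUnitHom_coe ι _
    have h2 : ι (Units.mk0 c h0) = ι 1 := by
      rw [map_one]; exact Units.ext (h1.symm.trans hc)
    exact congrArg Units.val (hι h2)

variable {K n : Type*} [Field K] [Fintype K] [Fintype n] [DecidableEq n]

theorem Lam_h1 {l : K → ℕ} (hl : l 1 = 0) {g x : Matrix n n K} (hg : g ^ Fintype.card K = g)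
    (hc : Commute x g) (hx : x * (g - 1) = g - 1) : Lam l g x = 1 := by
  refine Finset.prod_eq_one fun b _ => ?_
  by_cases hb : b = 1
  · rw [hb, hl, pow_zero]
  have h1 : (g - 1) * ep g b = (b - 1) • ep g b := by rw [sub_mul, mul_ep hg, one_mul, sub_smul, one_smul]
  have h2 : (b - 1) • (x * ep g b) = (b - 1) • ep g b := by
    rw [← mul_smul_comm, ← h1, ← mul_assoc, hx]
  have h3 : x * ep g b = ep g b := smul_right_injective _ (sub_ne_zero.2 hb) h2
  rw [← (commute_ep hc b).eq, h3, add_sub_cancel, Matrix.det_one, one_pow]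

theorem Lam_nt {p : ℕ} [Fact p.Prime] [CharP K p] [Algebra (ZMod p) K] {l : K → ℕ}
    (h7 : ∀ a : K, a ≠ 0 → ∃ j : ℕ, ∃ P : (ZMod p)[X],
      (aeval (a ^ p ^ j) P) ^ (l (a ^ p ^ j)) = a ^ p ^ j ∧
        ∀ i : ℕ, a ^ p ^ i ≠ a ^ p ^ j → l (a ^ p ^ i) = 0)
    {g : Matrix n n K} (hg : g ^ (Fintype.card K - 1) = 1) (fg : g.map (frobenius K p) = g)
    (h1 : g ≠ 1) : ∃ x : Matrix n n K, x.map (frobenius K p) = x ∧ x * g = g * x ∧ IsUnit x.det ∧
      Lam l g x ≠ 1 := by
  classical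
  have hQ : Fintype.card K = Fintype.card K - 1 + 1 := by
    have := Fintype.one_lt_card (α := K); omega
  have hg' : g ^ Fintype.card K = g := by rw [hQ, pow_succ, hg, one_mul]
  obtain ⟨a, ha1, ha⟩ : ∃ a : K, a ≠ 1 ∧ ep g a ≠ 0 := by
    by_contra! h
    refine h1 ?_
    rw [← sum_ep hg', ← (coi hg').complete]
    refine Finset.sum_congr rfl fun a _ => ?_
    by_cases e : a = 1
    · rw [e, one_smul]
    · rw [h a e, smul_zero]
  have ha0 : a ≠ 0 := fun e => ha (e ▸ ep_zero hg)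
  obtain ⟨j, P, hP, hl⟩ := h7 a ha0
  have hinj : ∀ (k : ℕ) (x y : K), x ^ p ^ k = y ^ p ^ k → x = y := fun k x y h =>
    (iterateFrobenius K p k).injective h
  have hne : ∀ k : ℕ, ep g (a ^ p ^ k) ≠ 0 := fun k => by
    induction k with
    | zero => simpa using ha
    | succ k ih =>
      rw [pow_succ, pow_mul, ← map_ep_frob fg]
      intro e
      refine ih (Matrix.ext fun x y => (frobenius K p).injective ?_)
      simpa using congrFun (congrFun e x) y
  have hj1 : a ^ p ^ j ≠ 1 := fun e => ha1 (hinj j _ _ (by rw [e, one_pow]))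
  have hb : aeval (a ^ p ^ j) P ≠ 0 := fun e => by
    rw [e] at hP
    rcases Nat.eq_zero_or_pos (l (a ^ p ^ j)) with h | h
    · rw [h, pow_zero] at hP; exact hj1 hP.symm
    · rw [zero_pow h.ne'] at hP; exact pow_ne_zero _ ha0 hP.symm
  have hab : ∀ k, (a ^ p ^ j) ^ p ^ k = a ^ p ^ j → aeval (a ^ p ^ j) P ^ p ^ k = aeval (a ^ p ^ j) P :=
    fun k hk => by
      let F : K →ₐ[ZMod p] K := { iterateFrobenius K p k with
        commutes' := fun c => RingHom.congr_fun
          (RingHom.ext_zmod ((iterateFrobenius K p k).comp (algebraMap _ _)) (algebraMap _ _)) c }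
      have := aeval_algHom_apply F (a ^ p ^ j) P
      change aeval ((a ^ p ^ j) ^ p ^ k) P = aeval (a ^ p ^ j) P ^ p ^ k at this
      rw [← this, hk]
  obtain ⟨x, fx, cx, ux, d1, d2⟩ := NT.ex p g (ep g) (fun a => ((coi hg').idem a).eq)
    (fun a c h => (coi hg').ortho h) (map_ep_frob fg) (mul_ep hg')
    (fun a => by rw [← (commute_ep (Commute.refl g) a).eq, mul_ep hg']) (hne j) hb hab
  refine ⟨x, fx, cx, ux, ?_⟩
  have hd : ∀ c : K, ep g c * x + (1 - ep g c) = x * ep g c + 1 - ep g c := fun c => by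
    rw [(commute_ep cx c).eq, add_sub_assoc]
  rw [Lam, Finset.prod_eq_single (a ^ p ^ j), hd, d1, hP]
  · exact hj1
  · intro c _ hc
    by_cases h : ∃ k, c = (a ^ p ^ j) ^ p ^ k
    · obtain ⟨k, rfl⟩ := h
      rw [← pow_mul, ← pow_add] at hc ⊢
      rw [hl _ hc, pow_zero]
    · rw [hd, d2 c fun k e => h ⟨k, e⟩, one_pow]
  · simp

theorem mat (p : ℕ) [hp : Fact p.Prime] : Tr.Mat p := by
  classical
  intro n
  obtain ⟨k, hk, hss, hreg⟩ := Big.ex p (GL (Fin n) (ZMod p))
  let K := GaloisField p k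
  have := Fintype.ofFinite K
  have hK : Fintype.card K = p ^ k := by
    rw [← Nat.card_eq_fintype_card]; exact GaloisField.card p k hk
  rw [← hK] at hss hreg
  have hQ : Fintype.card K = Fintype.card K - 1 + 1 := by
    have := Fintype.one_lt_card (α := K); omega
  obtain ⟨l, ρ, h1, h2, h3, h4, h5, h6, h7⟩ := Pair.ex p K
  obtain ⟨ι, hι⟩ := iota' K
  let f : Matrix (Fin n) (Fin n) (ZMod p) →+* Matrix (Fin n) (Fin n) K :=
    (algebraMap (ZMod p) K).mapMatrix
  have finj : Function.Injective f := fun x y h =>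
    Matrix.ext fun i j => (algebraMap (ZMod p) K).injective (congrFun (congrFun h i) j)
  let φ : GL (Fin n) (ZMod p) →* Matrix (Fin n) (Fin n) K :=
    f.toMonoidHom.comp (Units.coeHom _)
  have φinj : Function.Injective φ := fun x y h => Units.ext (finj h)
  have φfix : ∀ x, (φ x).map (frobenius K p) = φ x := fun x => Matrix.ext fun i j =>
    RingHom.congr_fun
      (RingHom.ext_zmod ((frobenius K p).comp (algebraMap _ _)) (algebraMap _ _)) (x.1 i j)
  have desc : ∀ X : Matrix (Fin n) (Fin n) K, X.map (frobenius K p) = X → IsUnit X.det →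
      ∃ x, φ x = X := fun X hX hu => by
    obtain ⟨y, hy⟩ := Big.desc p X hX
    have h : algebraMap (ZMod p) K y.det = X.det := by rw [RingHom.map_det, ← hy]; rfl
    have h0 : y.det ≠ 0 := fun e => hu.ne_zero (by rw [← h, e, map_zero])
    exact ⟨((Matrix.isUnit_iff_isUnit_det y).2 h0.isUnit).unit, hy⟩
  have φtr : ∀ x, (φ x).trace = algebraMap (ZMod p) K x.1.trace := fun x =>
    (AddMonoidHom.map_trace (algebraMap (ZMod p) K) x.1).symm
  have pw1 : ∀ x : GL (Fin n) (ZMod p), x ^ Fintype.card K = x →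
      φ x ^ (Fintype.card K - 1) = 1 := fun x hx => by
    rw [← map_pow, ← map_one φ]
    congr 1
    rw [hQ, pow_succ] at hx
    exact mul_eq_right.1 hx
  have pw2 : ∀ x : GL (Fin n) (ZMod p), x ^ Fintype.card K = x →
      φ x ^ Fintype.card K = φ x := fun x hx => by rw [← map_pow, hx]
  refine ⟨Fintype.card K - 1, fun h => ?_,
    fun y a => ι (Lam l (φ (y ^ Fintype.card K)) (φ a)), fun y a b ha hb => ?_, fun y => ?_,
    fun y g a _ => ?_, fun g m hm hgm => ?_⟩
  · have h' : p ∣ Fintype.card K := hK ▸ dvd_pow_self p hk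
    rw [hQ] at h'
    exact hp.out.one_lt.ne' (Nat.dvd_one.1 ((Nat.dvd_add_right h).1 h'))
  · have ha' : Commute a y := ha
    simp only
    rw [map_mul φ, Lam_mul l (pw2 _ (hss y)) ((ha'.pow_right _).map φ), map_mul]
  · simp only
    rw [map_one, Lam_one, map_one]
  · simp only
    rw [conj_pow, map_mul φ, map_mul φ, map_mul φ, map_mul φ, Lam_conj]
    · rw [← map_mul, mul_inv_cancel, map_one]
    · rw [← map_mul, inv_mul_cancel, map_one]
  have hg := hreg g m hm hgm
  simp only [hg]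
  have lmul : ∀ x y : GL (Fin n) (ZMod p), Commute x g →
      Lam l (φ g) (φ (x * y)) = Lam l (φ g) (φ x) * Lam l (φ g) (φ y) := fun x y hx => by
    rw [map_mul φ, Lam_mul l (pw2 _ hg) (hx.map φ)]
  refine ⟨fun x hx => ?_, fun x hx hx' => ?_, fun hg1 => ?_, ?_⟩
  · have h := lmul x x⁻¹ hx
    rw [mul_inv_cancel, map_one, Lam_one] at h
    rw [← map_pow, FiniteField.pow_card_sub_one_eq_one _ (left_ne_zero_of_mul_eq_one h.symm),
      map_one]
  · have hx0 : Commute x g := hx
    rw [Lam_h1 h6 (pw2 _ hg) (hx0.map φ), map_one]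
    have := congrArg f hx'
    rwa [map_mul, map_sub, map_one] at this
  · obtain ⟨X, fX, cX, uX, nX⟩ := Lam_nt h7 (pw1 _ hg) (φfix g)
      fun e => hg1 (φinj (e.trans (map_one φ).symm))
    obtain ⟨x, rfl⟩ := desc X fX uX
    exact ⟨x, φinj (by rw [map_mul, map_mul, cX]), fun e => nX (hι _ e)⟩
  have hex : ∀ x : {x : GL (Fin n) (ZMod p) // x * g = g * x}, ∃ R : GL (Fin n) (ZMod p),
      R ^ Fintype.card K = R ∧ Commute x.1 R ∧ Commute g R ∧
      Lam l (φ (x.1 ^ Fintype.card K)) (φ g) = Lam l (φ g) (φ R) ∧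
      (φ R).trace = (φ (x.1 ^ Fintype.card K)).trace ∧
      φ (x.1 ^ Fintype.card K) =
        ∑ a, ∑ c, Function.invFun (ρ a) c • (ep (φ g) a * ep (φ R) c) := fun x => by
    have hx : Commute x.1 g := x.2
    have hc := (hx.pow_left (Fintype.card K)).symm.map φ
    obtain ⟨R, fR, pR, cR, lR, tR, sR⟩ := key l ρ h1 h2 h3 h4 h5 (pw1 _ hg) (pw1 _ (hss x.1))
      hc (φfix _) (φfix _)
    have hu : IsUnit R.det := by
      refine IsUnit.of_pow_eq_one (n := Fintype.card K - 1) ?_ ?_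
      · rw [← Matrix.det_pow, pR, Matrix.det_one]
      · have := Fintype.one_lt_card (α := K); omega
    obtain ⟨r, rfl⟩ := desc R fR hu
    refine ⟨r, φinj ?_, φinj ?_, φinj ?_, lR, tR, sR⟩
    · rw [map_pow, hQ, pow_succ, pR, one_mul]
    · rw [map_mul, map_mul]
      exact cR _ (hx.map φ) (((Commute.refl x.1).pow_right _).map φ)
    · rw [map_mul, map_mul]
      exact cR _ (Commute.refl _) hc
  choose R pR cx cg lR tR sR using hex
  let u : GL (Fin n) (ZMod p) → GL (Fin n) (ZMod p) := fun x => x * (x ^ Fintype.card K)⁻¹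
  have cu : ∀ x y : GL (Fin n) (ZMod p), Commute x y → Commute (u x) y := fun x y h =>
    h.mul_left (h.pow_left _).inv_left
  have pu : ∀ x, u x ^ Fintype.card K = 1 := fun x => by
    rw [((Commute.refl x).pow_right _).inv_right.mul_pow, inv_pow, hss, mul_inv_cancel]
  let r : {x : GL (Fin n) (ZMod p) // x * g = g * x} → {x : GL (Fin n) (ZMod p) // x * g = g * x} :=
    fun x => ⟨u x.1 * R x, ((cu _ _ x.2).mul_left (cg x).symm).eq⟩
  have pr : ∀ x, (r x).1 ^ Fintype.card K = R x := fun x => by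
    change (u x.1 * R x) ^ _ = _
    rw [(cu _ _ (cx x)).mul_pow, pu, pR, one_mul]
  have rinj : Function.Injective r := fun x y h => by
    have e1 : R x = R y := by rw [← pr, ← pr, h]
    have e2 : u x.1 * R x = u y.1 * R y := congrArg Subtype.val h
    rw [e1, mul_left_inj] at e2
    have e3 : x.1 ^ Fintype.card K = y.1 ^ Fintype.card K := φinj (by rw [sR, sR, e1])
    simp only [u, e3, mul_left_inj] at e2
    exact Subtype.ext e2
  have pu' : ∀ x, φ (u x) ^ p ^ k = 1 := fun x => by rw [← hK, ← map_pow, pu, map_one]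
  refine ⟨Equiv.ofBijective r rinj.bijective_of_finite, fun x => ⟨?_, ?_⟩⟩
  · change _ = ι (Lam l (φ g) (φ (u x.1 * R x)))
    have h := Lam_pow l (pw2 _ hg) ((cu _ _ x.2).map φ) (Fintype.card K)
    rw [← map_pow, pu, map_one, Lam_one, FiniteField.pow_card] at h
    rw [lmul _ _ (cu _ _ x.2), ← h, one_mul, lR]
  · refine (algebraMap (ZMod p) K).injective ?_
    rw [← φtr, ← φtr]
    change (φ (u x.1 * R x)).trace = _
    have e : x.1 = u x.1 * x.1 ^ Fintype.card K := by simp [u]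
    rw [map_mul, trace_unip (pu' _) ((cu _ _ (cx x)).map φ), tR]
    conv_rhs => rw [e, map_mul]
    rw [trace_unip (pu' _) ((cu _ _ ((Commute.refl _).pow_right _)).map φ)]

end CL.KGV.Mid
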