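import Cfsg.Agent.KGV.Glue

/-!
The good class function as a quotient of two Gauss sums over the centralizer in `GL(V)`.
-/

set_option autoImplicit false
open Cfsg

namespace CL.KGA

open Subgroup CL.VCh CL.RVec CL.Blk LinearMap

universe u

/-- Kondo's evaluation of the Gauss sums. -/
def Kondo (p : ℕ) [Fact p.Prime] : Prop :=
  ∀ (V : Type u) [AddCommGroup V] [Module (ZMod p) V] [Finite V] (g : (Module.End (ZMod p) V)ˣ) (m : ℕ),
    ¬ p ∣ m → g ^ m = 1 → ∀ (θ : centralizer ({g} : Set (Module.End (ZMod p) V)ˣ) →* ℂ) (N : ℕ), ¬ p ∣ N →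
    (∀ x, θ x ^ N = 1) →
    (∀ x : centralizer ({g} : Set (Module.End (ZMod p) V)ˣ),
      (∀ v, x.1.1 (g.1 v - v) = g.1 v - v) → θ x = 1) →
    ∀ ψ : AddChar (ZMod p) ℂ, ψ ≠ 1 → ∃ (j : ℕ) (A : ℂ),
      ((∑ᶠ x : centralizer ({g} : Set (Module.End (ZMod p) V)ˣ), ψ (trace (ZMod p) V x.1.1)) = (p : ℂ) ^ j ∨
        (∑ᶠ x : centralizer ({g} : Set (Module.End (ZMod p) V)ˣ), ψ (trace (ZMod p) V x.1.1)) =
          -(p : ℂ) ^ j) ∧
      (∑ᶠ x : centralizer ({g} : Set (Module.End (ZMod p) V)ˣ), ψ (trace (ZMod p) V x.1.1) * θ x) =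
        (∑ᶠ x : centralizer ({g} : Set (Module.End (ZMod p) V)ˣ), ψ (trace (ZMod p) V x.1.1)) * A ∧
      IsIntegral ℤ A ∧ ‖A‖ ^ 2 * Nat.card {v // g.1 v = v} ≤ Nat.card V ∧
      (θ ≠ 1 → ∃ B, IsIntegral ℤ B ∧ A = (ψ 1 - 1) * B)

/-- The family of linear characters of the centralizers. -/
def Th (p : ℕ) [Fact p.Prime] : Prop :=
  ∀ (H U : Type u) [Group H] [Finite H] [AddCommGroup U] [Module (ZMod p) U] [Finite U],
    ¬ p ∣ Nat.card H → ∀ (ρ : Representation (ZMod p) H U) (ψ : AddChar (ZMod p) ℂ),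
      ∃ N : ℕ, ¬ p ∣ N ∧
        ∃ Θ : ∀ h : H, centralizer ({ρ.asGroupHom h} : Set (Module.End (ZMod p) U)ˣ) →* ℂ,
          (∀ h x, Θ h x ^ N = 1) ∧
          (∀ h (x : centralizer ({ρ.asGroupHom h} : Set (Module.End (ZMod p) U)ˣ)),
            (∀ v, x.1.1 (ρ h v - v) = ρ h v - v) → Θ h x = 1) ∧
          (∀ h, ρ h ≠ 1 → Θ h ≠ 1) ∧
          (fun h => ∑ᶠ x : centralizer ({ρ.asGroupHom h} : Set (Module.End (ZMod p) U)ˣ),
            ψ (trace (ZMod p) U x.1.1) * Θ h x) ∈ VC H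

variable {p : ℕ} [hp : Fact p.Prime]

theorem add_pow_p (ψ : AddChar (ZMod p) ℂ) (a : ZMod p) : ψ a ^ p = 1 := by
  rw [← AddChar.map_nsmul_eq_pow, nsmul_eq_mul, CharP.cast_eq_zero, zero_mul,
    AddChar.map_zero_eq_one]

theorem S_mem {H U : Type*} [Group H] [AddCommGroup U] [Module (ZMod p) U] [Finite U]
    (ρ : Representation (ZMod p) H U) (ψ : AddChar (ZMod p) ℂ) :
    (fun h => ∑ᶠ x : centralizer ({ρ.asGroupHom h} : Set (Module.End (ZMod p) U)ˣ),
      ψ (trace (ZMod p) U x.1.1)) ∈ VC H := by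
  classical
  have : Finite (Module.End (ZMod p) U) := Finite.of_injective _ DFunLike.coe_injective
  have := Fintype.ofFinite (Module.End (ZMod p) U)ˣ
  let _ : MulAction H (Module.End (ZMod p) U)ˣ :=
    MulAction.compHom _ (MulAut.conj.comp ρ.asGroupHom)
  have := sum_fixed_mem (H := H) (fun x : (Module.End (ZMod p) U)ˣ => ψ (trace (ZMod p) U x.1))
    (fun _ => IsIntegral.of_pow hp.out.pos (add_pow_p ψ _ ▸ isIntegral_one)) fun h x => by
      change ψ (trace (ZMod p) U (ρ.asGroupHom h * x * (ρ.asGroupHom h)⁻¹).1) = _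
      rw [Units.val_mul, trace_mul_comm, Units.val_mul, Units.inv_mul_cancel_left]
  convert this using 2 with h
  rw [finsum_eq_sum_of_fintype]
  refine (Finset.sum_subtype _ (fun x => ?_) fun x : (Module.End (ZMod p) U)ˣ => ψ (trace (ZMod p) U x.1)).symm
  rw [Finset.mem_filter_univ, mem_centralizer_singleton_iff]
  exact mul_inv_eq_iff_eq_mul.trans eq_comm

theorem ex (hK : Kondo.{u} p) (hT : Th.{u} p) : KGV.Ex.{u} p := by
  intro H U _ _ _ _ _ M hM hH ρ
  classical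
  have : Finite (Module.End (ZMod p) U) := Finite.of_injective _ DFunLike.coe_injective
  let e := ZMod.stdAddChar (N := p)
  have he : e.IsPrimitive := ZMod.isPrimitive_stdAddChar p
  have hne : ∀ ψ : AddChar (ZMod p) ℂ, ψ.IsPrimitive → ψ ≠ 1 := fun ψ h h1 =>
    h one_ne_zero (by rw [AddChar.mulShift_one, h1])
  obtain ⟨N, hN, Θ, h1, h2, h3, h4⟩ := hT H U hH ρ e
  have hg : ∀ h, ρ.asGroupHom h ^ Nat.card H = 1 := fun h => by rw [← map_pow, pow_card_eq_one', map_one]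
  choose j A a1 a2 a3 a4 a5 using fun h => hK U (ρ.asGroupHom h) _ hH (hg h) (Θ h) N hN (h1 h) (h2 h) e
    (hne e he)
  have p0 : ∀ k : ℕ, (p : ℂ) ^ k ≠ 0 := fun k => pow_ne_zero _ (Nat.cast_ne_zero.2 hp.out.ne_zero)
  have S0 : ∀ h, (∑ᶠ x : centralizer ({ρ.asGroupHom h} : Set (Module.End (ZMod p) U)ˣ),
      e (trace (ZMod p) U x.1.1)) ≠ 0 := fun h => by
    rcases a1 h with h | h <;> rw [h]
    exacts [p0 _, neg_ne_zero.2 (p0 _)]
  have N0 : N ≠ 0 := fun h => hN (h ▸ dvd_zero p)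
  obtain ⟨J, hJ⟩ := (Set.finite_range j).bddAbove
  refine ⟨p * N, mul_ne_zero hp.out.ne_zero N0, A, mem_of_mul_eq (S_mem ρ e) h4 a3 (fun h => (a2 h).symm)
    (q := p ^ J) ((hp.out.coprime_iff_not_dvd.2 hH).pow_left _) fun h => ?_, fun h => ?_,
    fun σ h => ?_, ?_, fun h hh => ?_⟩
  · obtain ⟨k, hk⟩ := Nat.exists_eq_add_of_le (hJ ⟨h, rfl⟩)
    have hi : IsIntegral ℤ ((p : ℂ) ^ k) := (CL.Char.isIntegral_natCast' p).pow k
    rcases a1 h with h | h <;> rw [h, hk]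
    · exact ⟨_, hi, by push_cast; ring⟩
    · exact ⟨_, hi.neg, by push_cast; ring⟩
  · have := Fintype.ofFinite (centralizer ({ρ.asGroupHom h} : Set (Module.End (ZMod p) U)ˣ))
    have he' : ∀ a, e a ∈ Fix (p * N) := fun a => root_mem_fix (by rw [pow_mul, add_pow_p, one_pow])
    rw [eq_div_of_mul_eq (S0 h) ((mul_comm _ _).trans (a2 h).symm), finsum_eq_sum_of_fintype,
      finsum_eq_sum_of_fintype]
    exact div_mem (sum_mem fun x _ => mul_mem (he' _)
      (root_mem_fix (by rw [pow_mul', h1, one_pow]))) (sum_mem fun x _ => he' _)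
  · have := Fintype.ofFinite (centralizer ({ρ.asGroupHom h} : Set (Module.End (ZMod p) U)ˣ))
    obtain ⟨_, B, -, b2, -, b4, -⟩ := hK U (ρ.asGroupHom h) _ hH (hg h) (σ.toMonoidHom.comp (Θ h)) N hN
      (fun x => by
        change σ (Θ h x) ^ N = 1
        rw [← map_pow, h1, map_one]) (fun x hx => by
        change σ (Θ h x) = 1
        rw [h2 h x hx, map_one]) (σ.toMonoidHom.compAddChar e)
      (hne _ (he.compMulHom_of_isPrimitive (f := σ.toMonoidHom) σ.injective))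
    have b1 := congrArg σ (a2 h)
    have s0 := (map_ne_zero σ).2 (S0 h)
    simp only [finsum_eq_sum_of_fintype, map_mul, map_sum] at b1 b2 s0
    rw [mul_left_cancel₀ s0 (b1.symm.trans b2)]
    exact b4
  · have := a2 1
    simp only [fun x => h2 1 x fun v => by simp, mul_one] at this
    exact (mul_left_cancel₀ (S0 1) ((mul_one _).trans this)).symm
  · obtain ⟨B, b1, b2⟩ := a5 h (h3 h fun h0 => hh (top_le_iff.1 fun v _ => by rw [mem_Fx, h0]; rfl))
    have hi : IsIntegral ℤ (e 1) := IsIntegral.of_pow hp.out.pos (add_pow_p e _ ▸ isIntegral_one)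
    rw [b2, red_mul (mem_V_of_isIntegral (hi.sub isIntegral_one)) (mem_V_of_isIntegral b1),
      red_sub (mem_V_of_isIntegral hi) (one_mem _),
      red_eq_one_of_pow_p_pow hM (k := 1) (by rw [pow_one, add_pow_p]), red_one, sub_self, zero_mul]

end CL.KGA
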